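import Groth.Agent.AVFieldDual.Polar
import Groth.Agent.AVFieldDual.Symm

/-!
# The homomorphism of an ample module is a polarisation
-/

noncomputable section

set_option autoImplicit false
set_option linter.style.haveILetI false
set_option linter.unusedSectionVars false
set_option backward.isDefEq.respectTransparency false
set_option backward.isDefEq.respectTransparency.types false
set_option maxHeartbeats 1000000

universe u

open CategoryTheory CategoryTheory.Limits MonoidalCategory CartesianMonoidalCategory MonObj AlgebraicGeometry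

namespace Groth.Agent.AVPrincPol

open Groth.Agent Groth.Agent.H23 Groth.Agent.H23.TrivBasic Groth.Agent.AVPair Groth.Agent.AVDual Groth.Agent.AVDualCx Groth.Agent.AVField
open scoped Groth.Agent.H23.PicMul

variable {k : Type u} [Field k] {B Bt : Over (Spec (CommRingCat.of k))} [GrpObj B] [IsProper B.hom]
  [GeometricallyIntegral B.hom] [GrpObj Bt] [IsProper Bt.hom] [GeometricallyIntegral Bt.hom]
  {φ : AgPol.DualMap B Bt} (hφ : AbDual.IsDualAV Scheme.fppfPrecoverage B Bt φ)

include hφ in
/-- The base change of the dual data sends the Mumford class to the base change of the homomorphism. -/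
theorem bcDual_mum {l d : PicF.Cl B.left} (hl : PicF.IsInvertibleCl l) (hld : l * d = 1) {k' : Type u} [Field k']
    (t : Spec (CommRingCat.of k') ⟶ Spec (CommRingCat.of k)) :
    AgPol.bcDual t B Bt φ (Red.bc t B) (AVField.mum (PicF.pullCl (prj t B) l) (PicF.pullCl (prj t B) d)) =
      (Over.pullback t).map (φ B (mum l d)) := by
  let U := Red.bc t B
  let T : Over (Spec (CommRingCat.of k)) := Over.mk (U.hom ≫ t)
  let p : T ⟶ B := Over.homMk (pullback.fst B.hom t) pullback.condition
  refine Over.OverMorphism.ext (pullback.hom_ext ?_ ?_)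
  · rw [bcDual_fst, map_prj]
    have hJ : (AgPol.bcXTIso t B U).inv ≫ prj₂ t B B = (B ◁ p).left := by
      refine tensor_ext _ _ ?_ ?_
      · rw [Category.assoc, prj₂_fst, ← Over.comp_left, whiskerLeft_fst]
        exact bcXTIso_inv_fst t B U
      · rw [Category.assoc, prj₂_snd, ← Over.comp_left, whiskerLeft_snd, Over.comp_left]
        show (AgPol.bcXTIso t B U).inv ≫ PicF.XTproj (Red.bc t B).hom U ≫ prj t B = _
        rw [← Category.assoc, bcXTIso_inv_proj]
        rfl
    have hcl : PicF.pullCl (AgPol.bcXTIso t B U).inv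
        (AVField.mum (PicF.pullCl (prj t B) l) (PicF.pullCl (prj t B) d)) = pl (B ◁ p) (mum l d) := by
      show PicF.pullCl _ (PicF.pullCl μ[U].left (PicF.pullCl (prj t B) l) *
          PicF.pullCl (fst U U).left (PicF.pullCl (prj t B) d) * PicF.pullCl (snd U U).left (PicF.pullCl (prj t B) d)) =
        PicF.pullCl (B ◁ p).left (PicF.pullCl μ[B].left l * PicF.pullCl (fst B B).left d * PicF.pullCl (snd B B).left d)
      rw [← hJ]
      simp only [PicMul.pullCl_mul, PicClLib.pullCl_comp, Category.assoc]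
      rw [prj₂_fst, prj₂_snd, mul_prj]
    rw [show φ (Over.mk ((Red.bc t B).hom ≫ t)) _ = φ T (pl (B ◁ p) (mum l d)) from congrArg (φ T) hcl,
      phi_pl hφ p (pz_mum hl hld), Over.comp_left]
    rfl
  · exact (Over.w (AgPol.bcDual t B Bt φ (Red.bc t B) _)).trans (Over.w ((Over.pullback t).map (φ B (mum l d)))).symm

include hφ in
/-- **The homomorphism of an ample module is a polarisation.** -/
theorem isPolarization_phi_mum {L : B.left.Modules} (hLa : CohB1.IsAmple L) {d : PicF.Cl B.left}
    (hLD : PicF.cl L * d = 1) : AgPol.IsPolarization B Bt φ (φ B (mum (PicF.cl L) d)) := by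
  refine ⟨isMonHom_phi_mum hφ ⟨L, rfl, hLa.1⟩ hLD, fun Ω _ _ t => ?_⟩
  haveI : IsAffineHom t := isAffineHom_of_isAffine t
  haveI : IsAffineHom (prj t B) := MorphismProperty.pullback_fst (P := @IsAffineHom) B.hom t inferInstance
  haveI : IsProper (Red.bc t B).hom := (BcComp.isAV_bc t B).1
  haveI : GeometricallyIntegral (Red.bc t B).hom := (BcComp.isAV_bc t B).2
  let L' : (Red.bc t B).left.Modules := (Scheme.Modules.pullback (prj t B)).obj L
  have hLa' : CohB1.IsAmple L' := by
    haveI : CompactSpace (Red.bc t B).left := QuasiCompact.compactSpace_of_compactSpace (Red.bc t B).hom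
    exact RGLib.Lim8.isAmple_pullback_affine _ hLa
  obtain ⟨D, rfl, hD⟩ := isInvertibleCl_inv ⟨L, rfl, hLa.1⟩ hLD
  let D' : (Red.bc t B).left.Modules := (Scheme.Modules.pullback (prj t B)).obj D
  have hLD' : PicF.cl L' * PicF.cl D' = 1 := by
    show PicF.pullCl (prj t B) (PicF.cl L) * PicF.pullCl (prj t B) (PicF.cl D) = 1
    rw [← PicMul.pullCl_mul, hLD, PicMul.pullCl_one]
  obtain ⟨N, hN, hNi⟩ := isInvertibleCl_mum (A := Red.bc t B) ⟨L', rfl, hLa'.1⟩ hLD'
  refine ⟨L', hLa', N, hNi, ?_, ?_⟩
  · refine (PicGrp.cl_eq_cl_iff _ _).1 ?_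
    show (PicF.cl N : PicF.Cl (Red.bc t B ⊗ Red.bc t B).left) * pl (fst _ _) (PicF.cl L') * pl (snd _ _) (PicF.cl L') =
      pl μ[Red.bc t B] (PicF.cl L')
    rw [hN]
    have hu : ∀ g : Red.bc t B ⊗ Red.bc t B ⟶ Red.bc t B, pl g (PicF.cl D') * pl g (PicF.cl L') = 1 := fun g => by
      rw [← map_mul, _root_.mul_comm, hLD', map_one]
    calc _ = pl μ[Red.bc t B] (PicF.cl L') * (pl (fst _ _) (PicF.cl D') * pl (fst _ _) (PicF.cl L')) *
          (pl (snd _ _) (PicF.cl D') * pl (snd _ _) (PicF.cl L')) := by unfold AVField.mum; ac_rfl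
      _ = _ := by rw [hu, hu, _root_.mul_one, _root_.mul_one]
  · rw [hN]
    exact bcDual_mum hφ ⟨L, rfl, hLa.1⟩ hLD t

end Groth.Agent.AVPrincPol
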