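import Groth.Agent.AVPrincPol.RankMono
import Groth.Agent.AVCentre.MaxIso
import Groth.Agent.AVDualExist.Data
import Groth.Agent.AVFieldDual.Isogeny
import Groth.Agent.NormX.ProperDescent
import Groth.Agent.AmpleX.RelAffine

/-!
# An isogenous abelian variety with an ample module of Euler characteristic `± 1`
-/

noncomputable section

set_option autoImplicit false
set_option linter.style.haveILetI false
set_option linter.unusedSectionVars false
set_option backward.isDefEq.respectTransparency false
set_option backward.isDefEq.respectTransparency.types false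
set_option maxHeartbeats 2000000

universe u

open CategoryTheory CategoryTheory.Limits MonoidalCategory CartesianMonoidalCategory MonObj AlgebraicGeometry TopologicalSpace

namespace Groth.Agent.AVPrincPol

open Groth.Agent Groth.Agent.H23 ThetaGrp
open scoped Groth.Agent.H23.PicMul

variable {k : Type u} [Field k] [IsAlgClosed k]

/-- Every abelian variety is isogenous to one carrying an ample module of Euler characteristic `± 1`. -/
theorem exists_quotient_euler_one (A : Over (Spec (CommRingCat.of k))) [GrpObj A] [IsCommMonObj A] [IsProper A.hom]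
    [GeometricallyIntegral A.hom] :
    ∃ (B : Over (Spec (CommRingCat.of k))) (_ : GrpObj B) (f : A ⟶ B),
      IsProper B.hom ∧ GeometricallyIntegral B.hom ∧ IsMonHom f ∧ IsFinite f.left ∧ Surjective f.left ∧
        ∃ M : B.left.Modules, CohB1.IsAmple M ∧ @Curv2.euler k _ B.left ⟨B.hom⟩ M ^ 2 = 1 := by
  haveI : Subsingleton ↥(Spec (CommRingCat.of k)) := inferInstanceAs (Subsingleton (PrimeSpectrum k))
  haveI : Nonempty ↥(Spec (CommRingCat.of k)) := inferInstanceAs (Nonempty (PrimeSpectrum k))
  obtain ⟨s₀⟩ : Nonempty ↥(Spec (CommRingCat.of k)) := inferInstance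
  obtain ⟨L, hLa⟩ := AVProj.exists_isAmple (X := A)
  have hL := hLa.1
  have hfin : Set.Finite {a : 𝟙_ (Over (Spec (CommRingCat.of k))) ⟶ A |
      CubeAb.F (PicF.cl L) (CubeAb.tr a) = PicF.cl L} :=
    (S12002.result k A L hLa).subset fun a ha => (AVTheta8.F_tr_eq_iff a).1 ha
  obtain ⟨K, sK, iK, _, _, hKf, hK⟩ := AVDualCx.exists_subgroup hL (hfin.subset fun a ha =>
    (AVTheta8.delta_eq_one hL a).1 ha)
  haveI hKf' : IsFinite K.hom := hKf
  haveI := hK.closed
  haveI : Mono iK := Over.mono_of_mono_left iK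
  -- ranks of isotropic subgroups
  let P : ℕ → Prop := fun n => ∃ (H : Over (Spec (CommRingCat.of k))) (_ : GrpObj H) (iH : H ⟶ A),
    IsMonHom iH ∧ IsClosedImmersion iH.left ∧ (∃ y : H ⟶ K, y ≫ iK = iH) ∧ IsIsotropic L iH ∧
      Scheme.Hom.finrank H.hom s₀ = n
  have hbd : ∀ n, P n → n ≤ Scheme.Hom.finrank K.hom s₀ := fun n => by
    rintro ⟨H, _, iH, _, _, ⟨y, hy⟩, _, rfl⟩
    haveI : IsClosedImmersion y.left := by
      haveI : IsClosedImmersion (y.left ≫ iK.left) := by rw [← Over.comp_left, hy]; infer_instance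
      exact IsClosedImmersion.of_comp y.left iK.left
    rw [← Over.w y]
    exact (finrank_le_and_iso y.left K.hom s₀).1
  have hP : ∃ n, P n := by
    refine ⟨_, 𝟙_ _, inferInstance, η[A], ?_, ?_, ⟨η[K], ?_⟩, ?_, rfl⟩
    · exact inferInstance
    · haveI : IsClosedImmersion (η[A].left ≫ A.hom) := by
        rw [Over.w η[A]]
        exact inferInstanceAs (IsClosedImmersion (𝟙 _))
      exact IsClosedImmersion.of_comp η[A].left A.hom
    · exact IsMonHom.one_hom iK
    · intro T x y β₁ β₂ e₁ e₂
      refine ThetaLib.commute_of_overOne hL (ThetaLib.gammaSnd_of_abelian A) ?_ β₂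
      rwa [show x ≫ η[A] = 1 by rw [Hom.one_def, toUnit_unique x (toUnit T)]] at e₁
  obtain ⟨m, hmP, hmax'⟩ : ∃ m, P m ∧ ∀ n, P n → n ≤ m := by
    classical
    obtain ⟨n₀, hn₀⟩ := hP
    exact ⟨Nat.findGreatest P (Scheme.Hom.finrank K.hom s₀), Nat.findGreatest_spec (hbd _ hn₀) hn₀,
      fun n hn => Nat.le_findGreatest (hbd _ hn) hn⟩
  obtain ⟨H, sH, iH, hHm, hHc, hHK, hiso, hHr⟩ := hmP
  haveI := hHm
  haveI := hHc
  have hfin' : ∀ {Z : Over (Spec (CommRingCat.of k))} (i : Z ⟶ A) [IsClosedImmersion i.left],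
      (∃ y : Z ⟶ K, y ≫ iK = i) → IsFinite Z.hom ∧ True := fun {Z} i _ ⟨y, hy⟩ => by
    haveI : IsClosedImmersion (y.left ≫ iK.left) := by rw [← Over.comp_left, hy]; infer_instance
    haveI : IsClosedImmersion y.left := IsClosedImmersion.of_comp y.left iK.left
    rw [← Over.w y]
    exact ⟨inferInstance, trivial⟩
  obtain ⟨-, hHf, hH2⟩ := AVCentre.perp_eq_self_of_maximal hL hK hHK hiso fun H' _ iH' _ _ hH'K hH'iso ⟨z, hz⟩ => by
    haveI := (hfin' iH' hH'K).1
    haveI : IsClosedImmersion z.left := by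
      haveI : IsClosedImmersion (z.left ≫ iH'.left) := by rw [← Over.comp_left, hz]; infer_instance
      exact IsClosedImmersion.of_comp z.left iH'.left
    obtain ⟨hle, hiso'⟩ := finrank_le_and_iso z.left H'.hom s₀
    rw [Over.w z, hHr] at hle hiso'
    haveI : IsIso z.left := hiso' (le_antisymm hle (hmax' _ ⟨H', inferInstance, iH', inferInstance, inferInstance,
      hH'K, hH'iso, rfl⟩))
    haveI : IsIso z := by
      haveI : IsIso ((Over.forget _).map z) := inferInstanceAs (IsIso z.left)
      exact isIso_of_reflects_iso z (Over.forget _)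
    exact ⟨inv z, by rw [← hz, IsIso.inv_hom_id_assoc]⟩
  haveI := hHf
  haveI : Mono iH := Over.mono_of_mono_left iH
  -- the quotient
  obtain ⟨B, sB, f, hBp, hBg, hfm, hff, hffl, hfs, hf0, hfker⟩ := AVDualCx.exists_quotient iH
  haveI := hBp; haveI := hBg; haveI := hfm; haveI := hff; haveI := hffl; haveI := hfs
  haveI : IsCommMonObj B := isCommMonObj_of_isProper_of_geometricallyIntegral B
  have hc' : ∀ c : PullbackCone f η[B], ∃ b : c.pt ⟶ H, b ≫ iH = c.fst := fun c =>
    hfker _ c.fst (c.condition.trans (by rw [Hom.one_def, toUnit_unique c.snd (toUnit _)]))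
  have hkk : AlgGrp.IsKernel iH f := by
    refine ⟨⟨hf0.trans Hom.one_def⟩, ⟨PullbackCone.IsLimit.mk _ (fun c => (hc' c).choose)
      (fun c => (hc' c).choose_spec) (fun c => toUnit_unique _ _) fun c m hm _ => ?_⟩⟩
    rw [← cancel_mono iH, (hc' c).choose_spec, hm]
  obtain ⟨M, hM, ⟨φ⟩⟩ := (S19948.result k A B f hfs H iH hkk L hL K iK hK).2 ⟨hHK, hiso⟩
  have hfMa : CohB1.IsAmple ((Scheme.Modules.pullback f.left).obj M) := AmpleX.isAmple_of_iso φ.symm hLa
  have hMa : CohB1.IsAmple M := NormX.isAmple_of_finite_surjective B.hom f.left hM hfMa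
  refine ⟨B, sB, f, hBp, hBg, hfm, hff, hfs, M, hMa, ?_⟩
  haveI : IsIntegral A.left := GeometricallyIntegral.isIntegral_of_subsingleton A.hom
  haveI : IsIntegral B.left := GeometricallyIntegral.isIntegral_of_subsingleton B.hom
  haveI : LocallyOfFinitePresentation f.left := by
    haveI : LocallyOfFinitePresentation (f.left ≫ B.hom) := by rw [Over.w f]; infer_instance
    exact S12442.locallyOfFinitePresentation_of_comp f.left B.hom
  obtain ⟨a0⟩ : Nonempty A.left := inferInstance
  let d := f.left.finrank (f.left a0)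
  have hd : ∀ b, f.left.finrank b = d :=
    fun b => f.left.isLocallyConstant_finrank.apply_eq_of_preconnectedSpace _ _
  have hHd : Scheme.Hom.finrank H.hom s₀ = d := by
    have sq : IsPullback iH.left (toUnit H).left f.left η[B].left :=
      (show IsPullback iH (toUnit H) f η[B] from hkk).map (Over.forget _)
    rw [show H.hom = (toUnit H).left from (Over.toUnit_left).symm, Scheme.Hom.finrank_of_isPullback _ _ _ _ sq s₀, hd]
  haveI : IsLocallyNoetherian B.left := LocallyOfFiniteType.isLocallyNoetherian B.hom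
  have hd0 : 0 < d := f.left.one_le_finrank_map a0
  have h1 := AVDualMake.euler_sq_KL hL hK s₀
  rw [← hH2 s₀, hHd] at h1
  letI : A.left.Over (Spec (CommRingCat.of k)) := ⟨A.hom⟩
  rw [← CurveCohLib.euler_congr (k := k) φ, AVEuler.euler_pullback f d hd M (AmpleVan.isCoh_invertible hM),
    mul_pow] at h1
  push_cast at h1
  exact mul_left_cancel₀ (pow_ne_zero 2 (Int.natCast_ne_zero.2 hd0.ne')) (h1.trans (_root_.mul_one _).symm)

end Groth.Agent.AVPrincPol
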