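import Groth.Agent.AVPrincPol.Main
import Mathlib.Tactic.Module
import Mathlib.NumberTheory.SumFourSquares

/-!
# The fourth power: quaternions
-/

noncomputable section

set_option autoImplicit false
set_option linter.style.haveILetI false
set_option linter.unusedSectionVars false
set_option backward.isDefEq.respectTransparency false
set_option backward.isDefEq.respectTransparency.types false
set_option maxHeartbeats 2000000

universe u

open CategoryTheory CategoryTheory.Limits MonoidalCategory CartesianMonoidalCategory MonObj AlgebraicGeometry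

namespace Groth.Agent.AVPrincPol

open Groth.Agent Groth.Agent.H23 Groth.Agent.AVPair
open scoped Groth.Agent.H23.PicMul

/-- The quaternion identity for a bilinear form. -/
theorem quaternion_identity {M N : Type*} [AddCommGroup M] [AddCommGroup N] (B : M →+ M →+ N) (a b c d : ℤ)
    (f₁ f₂ f₃ f₄ g₁ g₂ g₃ g₄ : M) :
    B (a • f₁ + -b • f₂ + -c • f₃ + -d • f₄) (a • g₁ + -b • g₂ + -c • g₃ + -d • g₄) +
      B (b • f₁ + a • f₂ + -d • f₃ + c • f₄) (b • g₁ + a • g₂ + -d • g₃ + c • g₄) +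
      B (c • f₁ + d • f₂ + a • f₃ + -b • f₄) (c • g₁ + d • g₂ + a • g₃ + -b • g₄) +
      B (d • f₁ + -c • f₂ + b • f₃ + a • f₄) (d • g₁ + -c • g₂ + b • g₃ + a • g₄) =
    (a ^ 2 + b ^ 2 + c ^ 2 + d ^ 2) • (B f₁ g₁ + B f₂ g₂ + B f₃ g₃ + B f₄ g₄) := by
  simp only [map_add, map_zsmul, AddMonoidHom.add_apply, AddMonoidHom.smul_apply]
  module

variable {k : Type u} [Field k] {A : Over (Spec (CommRingCat.of k))} [GrpObj A] [IsProper A.hom]
  [GeometricallyIntegral A.hom]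

/-- The pairing with values in units. -/
def EU {l d : PicF.Cl A.left} (hl : PicF.IsInvertibleCl l) (hld : l * d = 1) {T : Over (Spec (CommRingCat.of k))}
    (x y : T ⟶ A) : (PicF.Cl T.left)ˣ :=
  (PicMul.isUnit_of_isInvertibleCl (isInv_pl (lift x y) (AVField.isInvertibleCl_mum hl hld))).unit

theorem val_EU {l d : PicF.Cl A.left} (hl : PicF.IsInvertibleCl l) (hld : l * d = 1)
    {T : Over (Spec (CommRingCat.of k))} (x y : T ⟶ A) : ((EU hl hld x y : (PicF.Cl T.left)ˣ) : PicF.Cl T.left) = E l d x y :=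
  IsUnit.unit_spec _

variable [IsCommMonObj A]

/-- The pairing as a biadditive map. -/
def EA {l d : PicF.Cl A.left} (hl : PicF.IsInvertibleCl l) (hld : l * d = 1) (T : Over (Spec (CommRingCat.of k))) :
    Additive (T ⟶ A) →+ Additive (T ⟶ A) →+ Additive (PicF.Cl T.left)ˣ :=
  AddMonoidHom.mk' (fun x => AddMonoidHom.mk' (fun y => Additive.ofMul (EU hl hld x.toMul y.toMul))
      fun y y' => Additive.toMul.injective (Units.ext (by
        simp only [toMul_add, toMul_ofMul, Units.val_mul, val_EU, E_mul_right hl hld])))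
    fun x x' => AddMonoidHom.ext fun y => Additive.toMul.injective (Units.ext (by
      simp only [AddMonoidHom.mk'_apply, AddMonoidHom.add_apply, toMul_add, toMul_ofMul, Units.val_mul, val_EU,
        E_mul_left hl hld]))

theorem val_EA {l d : PicF.Cl A.left} (hl : PicF.IsInvertibleCl l) (hld : l * d = 1)
    {T : Over (Spec (CommRingCat.of k))} (x y : T ⟶ A) :
    ((Additive.toMul (EA hl hld T (Additive.ofMul x) (Additive.ofMul y)) : (PicF.Cl T.left)ˣ) : PicF.Cl T.left) =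
      E l d x y := val_EU hl hld x y

local notation "F" => A ⊗ A ⊗ A ⊗ A

/-- The first projection. -/
abbrev p₁ : F ⟶ A := fst A (A ⊗ A ⊗ A)
/-- The second projection. -/
abbrev p₂ : F ⟶ A := snd A (A ⊗ A ⊗ A) ≫ fst A (A ⊗ A)
/-- The third projection. -/
abbrev p₃ : F ⟶ A := snd A (A ⊗ A ⊗ A) ≫ snd A (A ⊗ A) ≫ fst A A
/-- The fourth projection. -/
abbrev p₄ : F ⟶ A := snd A (A ⊗ A ⊗ A) ≫ snd A (A ⊗ A) ≫ snd A A

theorem four_ext {T : Over (Spec (CommRingCat.of k))} {x y : T ⟶ F} (h₁ : x ≫ p₁ = y ≫ p₁) (h₂ : x ≫ p₂ = y ≫ p₂)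
    (h₃ : x ≫ p₃ = y ≫ p₃) (h₄ : x ≫ p₄ = y ≫ p₄) : x = y := by
  refine CartesianMonoidalCategory.hom_ext _ _ h₁ (CartesianMonoidalCategory.hom_ext _ _ ?_
    (CartesianMonoidalCategory.hom_ext _ _ ?_ ?_))
  · simpa only [Category.assoc] using h₂
  · simpa only [Category.assoc] using h₃
  · simpa only [Category.assoc] using h₄

/-- The point with given coordinates. -/
abbrev four {T : Over (Spec (CommRingCat.of k))} (x₁ x₂ x₃ x₄ : T ⟶ A) : T ⟶ F := lift x₁ (lift x₂ (lift x₃ x₄))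

theorem comp_zpow' {T T' : Over (Spec (CommRingCat.of k))} (g : T' ⟶ T) (x : T ⟶ A) (n : ℤ) :
    g ≫ (x ^ n) = (g ≫ x) ^ n :=
  map_zpow (MonoidHom.mk' (fun y : T ⟶ A => g ≫ y) (fun y y' => MonObj.comp_mul g y y')) x n

/-- The combination with integer coefficients. -/
abbrev comb {T : Over (Spec (CommRingCat.of k))} (a b c d : ℤ) (x₁ x₂ x₃ x₄ : T ⟶ A) : T ⟶ A :=
  x₁ ^ a * x₂ ^ b * x₃ ^ c * x₄ ^ d

/-- Multiplication by a quaternion. -/
def quat (a b c d : ℤ) : F ⟶ F :=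
  four (comb a (-b) (-c) (-d) p₁ p₂ p₃ p₄) (comb b a (-d) c p₁ p₂ p₃ p₄) (comb c d a (-b) p₁ p₂ p₃ p₄)
    (comb d (-c) b a p₁ p₂ p₃ p₄)

theorem comp_quat (a b c d : ℤ) {T : Over (Spec (CommRingCat.of k))} (x : T ⟶ F) :
    x ≫ quat a b c d ≫ p₁ = comb a (-b) (-c) (-d) (x ≫ p₁) (x ≫ p₂) (x ≫ p₃) (x ≫ p₄) ∧
    x ≫ quat a b c d ≫ p₂ = comb b a (-d) c (x ≫ p₁) (x ≫ p₂) (x ≫ p₃) (x ≫ p₄) ∧
    x ≫ quat a b c d ≫ p₃ = comb c d a (-b) (x ≫ p₁) (x ≫ p₂) (x ≫ p₃) (x ≫ p₄) ∧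
    x ≫ quat a b c d ≫ p₄ = comb d (-c) b a (x ≫ p₁) (x ≫ p₂) (x ≫ p₃) (x ≫ p₄) := by
  refine ⟨?_, ?_, ?_, ?_⟩ <;>
    simp only [quat, p₁, p₂, p₃, p₄, four, comb, lift_fst, lift_snd, lift_snd_assoc, MonObj.comp_mul, comp_zpow']

variable {L : A.left.Modules} [IsAlgClosed k]

/-- The exterior fourth power of a module. -/
def pow4 (L : A.left.Modules) : (F).left.Modules :=
  CohB1.tensorMod ((Scheme.Modules.pullback (pullback.fst A.hom (A ⊗ A ⊗ A).hom)).obj L)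
    ((Scheme.Modules.pullback (pullback.snd A.hom (A ⊗ A ⊗ A).hom)).obj
      (CohB1.tensorMod ((Scheme.Modules.pullback (pullback.fst A.hom (A ⊗ A).hom)).obj L)
        ((Scheme.Modules.pullback (pullback.snd A.hom (A ⊗ A).hom)).obj
          (CohB1.tensorMod ((Scheme.Modules.pullback (pullback.fst A.hom A.hom)).obj L)
            ((Scheme.Modules.pullback (pullback.snd A.hom A.hom)).obj L)))))

theorem cl_pow4 : (PicF.cl (pow4 L) : PicF.Cl (F).left) =
    pl p₁ (PicF.cl L) * pl p₂ (PicF.cl L) * pl p₃ (PicF.cl L) * pl p₄ (PicF.cl L) := by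
  have h2 : (PicF.cl (CohB1.tensorMod ((Scheme.Modules.pullback (pullback.fst A.hom A.hom)).obj L)
      ((Scheme.Modules.pullback (pullback.snd A.hom A.hom)).obj L)) : PicF.Cl (A ⊗ A).left) =
      pl (fst A A) (PicF.cl L) * pl (snd A A) (PicF.cl L) := PicMul.cl_tensor _ _
  have h3 : ∀ G : (A ⊗ A).left.Modules, (PicF.cl (CohB1.tensorMod ((Scheme.Modules.pullback (pullback.fst A.hom (A ⊗ A).hom)).obj L)
      ((Scheme.Modules.pullback (pullback.snd A.hom (A ⊗ A).hom)).obj G)) : PicF.Cl (A ⊗ A ⊗ A).left) =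
      pl (fst A (A ⊗ A)) (PicF.cl L) * pl (snd A (A ⊗ A)) (PicF.cl G) := fun G => PicMul.cl_tensor _ _
  have h4 : ∀ G : (A ⊗ A ⊗ A).left.Modules, (PicF.cl (CohB1.tensorMod
      ((Scheme.Modules.pullback (pullback.fst A.hom (A ⊗ A ⊗ A).hom)).obj L)
      ((Scheme.Modules.pullback (pullback.snd A.hom (A ⊗ A ⊗ A).hom)).obj G)) : PicF.Cl (F).left) =
      pl (fst A (A ⊗ A ⊗ A)) (PicF.cl L) * pl (snd A (A ⊗ A ⊗ A)) (PicF.cl G) := fun G => PicMul.cl_tensor _ _
  rw [pow4, h4, h3, h2]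
  simp only [map_mul, pl_pl, _root_.mul_assoc]

theorem isAmple_pow4 (hLa : CohB1.IsAmple L) : CohB1.IsAmple (pow4 L) := by
  haveI : IsProper (A ⊗ A).hom := AVIndex.isProper_tensor
  haveI : GeometricallyIntegral (A ⊗ A).hom := MaxAbelian.geometricallyIntegral_tensor A A
  haveI : IsProper (A ⊗ A ⊗ A).hom := AVIndex.isProper_tensor
  exact isAmple_boxProd A.hom (A ⊗ A ⊗ A).hom hLa
    (isAmple_boxProd A.hom (A ⊗ A).hom hLa (isAmple_boxProd A.hom A.hom hLa hLa))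

/-- The inverse of the exterior fourth power. -/
def dpow4 (d : PicF.Cl A.left) : PicF.Cl (F).left := pl p₁ d * pl p₂ d * pl p₃ d * pl p₄ d

theorem cl_pow4_mul {d : PicF.Cl A.left} (hLD : PicF.cl L * d = 1) : PicF.cl (pow4 L) * dpow4 d = 1 := by
  rw [cl_pow4, dpow4]
  calc _ = pl p₁ (PicF.cl L * d) * pl p₂ (PicF.cl L * d) * pl p₃ (PicF.cl L * d) * pl p₄ (PicF.cl L * d) := by
        simp only [map_mul]; ac_rfl
    _ = 1 := by simp only [hLD, map_one, _root_.mul_one]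

theorem E_pow4 (d : PicF.Cl A.left) {T : Over (Spec (CommRingCat.of k))} (x y : T ⟶ F) :
    haveI : IsProper (A ⊗ A).hom := AVIndex.isProper_tensor
    haveI : GeometricallyIntegral (A ⊗ A).hom := MaxAbelian.geometricallyIntegral_tensor A A
    haveI : IsProper (A ⊗ A ⊗ A).hom := AVIndex.isProper_tensor
    haveI : GeometricallyIntegral (A ⊗ A ⊗ A).hom := MaxAbelian.geometricallyIntegral_tensor A _
    haveI : IsProper (F).hom := AVIndex.isProper_tensor
    haveI : GeometricallyIntegral (F).hom := MaxAbelian.geometricallyIntegral_tensor A _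
    E (PicF.cl (pow4 L)) (dpow4 d) x y = E (PicF.cl L) d (x ≫ p₁) (y ≫ p₁) * E (PicF.cl L) d (x ≫ p₂) (y ≫ p₂) *
      E (PicF.cl L) d (x ≫ p₃) (y ≫ p₃) * E (PicF.cl L) d (x ≫ p₄) (y ≫ p₄) := by
  haveI : IsProper (A ⊗ A).hom := AVIndex.isProper_tensor
  haveI : GeometricallyIntegral (A ⊗ A).hom := MaxAbelian.geometricallyIntegral_tensor A A
  haveI : IsProper (A ⊗ A ⊗ A).hom := AVIndex.isProper_tensor
  haveI : GeometricallyIntegral (A ⊗ A ⊗ A).hom := MaxAbelian.geometricallyIntegral_tensor A _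
  haveI : IsProper (F).hom := AVIndex.isProper_tensor
  haveI : GeometricallyIntegral (F).hom := MaxAbelian.geometricallyIntegral_tensor A _
  show E _ _ x y = _
  rw [cl_pow4, dpow4, E_mul, E_mul, E_mul, E_pullback, E_pullback, E_pullback, E_pullback]

variable {At : Over (Spec (CommRingCat.of k))} [GrpObj At] [IsProper At.hom] [GeometricallyIntegral At.hom]
  {φ : AgPol.DualMap A At}

/-- **The fourth power of a polarised variety times its dual is principally polarised.** -/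
theorem exists_ample_euler_one_four (hφ : AbDual.IsDualAV Scheme.fppfPrecoverage A At φ)
    {L : A.left.Modules} (hLa : CohB1.IsAmple L) {d : PicF.Cl A.left} (hLD : PicF.cl L * d = 1) (m : ℕ) (hm : 1 ≤ m)
    (hKm : ∀ (T : Over (Spec (CommRingCat.of k))) (x : T ⟶ A), ThetaGrp.IsMumfordTriv A L x → x ^ m = 1)
    {Q : Over (Spec (CommRingCat.of k))} [GrpObj Q] {ψ : AgPol.DualMap (A ⊗ A ⊗ A ⊗ A) Q}
    (hψ : AbDual.IsDualAV Scheme.fppfPrecoverage (A ⊗ A ⊗ A ⊗ A) Q ψ) :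
    ∃ M : ((A ⊗ A ⊗ A ⊗ A) ⊗ Q).left.Modules, IsProper ((A ⊗ A ⊗ A ⊗ A) ⊗ Q).hom ∧
      GeometricallyIntegral ((A ⊗ A ⊗ A ⊗ A) ⊗ Q).hom ∧ CohB1.IsAmple M ∧
      @Curv2.euler k _ ((A ⊗ A ⊗ A ⊗ A) ⊗ Q).left ⟨((A ⊗ A ⊗ A ⊗ A) ⊗ Q).hom⟩ M ^ 2 = 1 := by
  haveI : IsProper (A ⊗ A).hom := AVIndex.isProper_tensor
  haveI : GeometricallyIntegral (A ⊗ A).hom := MaxAbelian.geometricallyIntegral_tensor A A
  haveI : IsProper (A ⊗ A ⊗ A).hom := AVIndex.isProper_tensor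
  haveI : GeometricallyIntegral (A ⊗ A ⊗ A).hom := MaxAbelian.geometricallyIntegral_tensor A _
  haveI : IsProper (F).hom := AVIndex.isProper_tensor
  haveI : GeometricallyIntegral (F).hom := MaxAbelian.geometricallyIntegral_tensor A _
  haveI : IsCommMonObj (F) := isCommMonObj_of_isProper_of_geometricallyIntegral _
  haveI : IsIntegral (F).left := GeometricallyIntegral.isIntegral_of_subsingleton (F).hom
  obtain ⟨g, hg⟩ : ∃ g : ℕ, topologicalKrullDim ↥(F).left = g :=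
    ⟨_, VarDim.topologicalKrullDim_eq_deg_genericPoint (F).hom⟩
  obtain ⟨hQp, hQg, -⟩ := AVDualExist.isAV_of_isDualAV g hg hψ
  haveI := hQp; haveI := hQg
  have hl : PicF.IsInvertibleCl (PicF.cl L) := ⟨L, rfl, hLa.1⟩
  obtain ⟨a, b, c, e, habce⟩ := Nat.sum_four_squares (m ^ 2 - 1)
  have hsum : (a : ℤ) ^ 2 + (b : ℤ) ^ 2 + (c : ℤ) ^ 2 + (e : ℤ) ^ 2 + 1 = (m : ℤ) ^ 2 := by
    have h := congrArg (fun n : ℕ => (n : ℤ)) habce
    rw [Nat.cast_sub (Nat.one_le_pow _ _ hm)] at h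
    push_cast at h
    linarith
  let α : F ⟶ F := quat (a : ℤ) b c e
  haveI : IsMonHom α := GrpSchLib.RigidHom.isMonHom_of_one α (by
    have h1 : ∀ p : F ⟶ A, IsMonHom p → (η[F] : 𝟙_ _ ⟶ F) ≫ p = 1 := fun p hp => by
      rw [IsMonHom.one_hom p, Hom.one_def, toUnit_unique (toUnit _) (𝟙 _), Category.id_comp]
    obtain ⟨e1, e2, e3, e4⟩ := comp_quat (a : ℤ) b c e (η[F] : 𝟙_ _ ⟶ F)
    simp only [h1 p₁ inferInstance, h1 p₂ inferInstance, h1 p₃ inferInstance, h1 p₄ inferInstance, comb, one_zpow,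
      _root_.mul_one] at e1 e2 e3 e4
    refine four_ext ?_ ?_ ?_ ?_ <;> rw [Category.assoc]
    exacts [e1.trans (h1 _ inferInstance).symm, e2.trans (h1 _ inferInstance).symm,
      e3.trans (h1 _ inferInstance).symm, e4.trans (h1 _ inferInstance).symm])
  have hL4 := isAmple_pow4 hLa
  have hld4 := cl_pow4_mul hLD
  have hproj : ∀ (T : Over (Spec (CommRingCat.of k))) (x : T ⟶ F),
      ThetaGrp.IsMumfordTriv F (pow4 L) x ↔ ThetaGrp.IsMumfordTriv A L (x ≫ p₁) ∧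
        ThetaGrp.IsMumfordTriv A L (x ≫ p₂) ∧ ThetaGrp.IsMumfordTriv A L (x ≫ p₃) ∧
        ThetaGrp.IsMumfordTriv A L (x ≫ p₄) := fun T x => by
    simp only [mumfordTriv_iff hL4.1 hld4, mumfordTriv_iff hLa.1 hLD, E_pow4]
    constructor
    · intro h
      have hq : ∀ (i : A ⟶ F), _ := fun i => congrArg (pl (i ▷ T)) h
      simp only [map_mul, pl_E, map_one, Category.assoc, whiskerRight_fst_assoc, whiskerRight_snd_assoc] at hq
      have hone : ∀ (i : A ⟶ F) (p : F ⟶ A) (y : A ⊗ T ⟶ A), i ≫ p = 1 →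
          E (PicF.cl L) d (fst A T ≫ i ≫ p) y = 1 := fun i p y hip => by
        rw [hip, MonObj.comp_one, E_one_left hl hLD]
      refine ⟨?_, ?_, ?_, ?_⟩
      · have := hq (four (𝟙 A) 1 1 1)
        simpa [four, p₁, p₂, p₃, p₄, hone, MonObj.comp_one, E_one_left hl hLD] using this
      · have := hq (four 1 (𝟙 A) 1 1)
        simpa [four, p₁, p₂, p₃, p₄, hone, MonObj.comp_one, E_one_left hl hLD] using this
      · have := hq (four 1 1 (𝟙 A) 1)
        simpa [four, p₁, p₂, p₃, p₄, hone, MonObj.comp_one, E_one_left hl hLD] using this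
      · have := hq (four 1 1 1 (𝟙 A))
        simpa [four, p₁, p₂, p₃, p₄, hone, MonObj.comp_one, E_one_left hl hLD] using this
    · rintro ⟨h1, h2, h3, h4⟩
      have hg : ∀ (p : F ⟶ A), E (PicF.cl L) d (fst A T) (snd A T ≫ x ≫ p) = 1 →
          E (PicF.cl L) d (fst F T ≫ p) ((snd F T ≫ x) ≫ p) = 1 := fun p hp => by
        have := congrArg (pl (p ▷ T)) hp
        rw [pl_E, whiskerRight_fst, whiskerRight_snd_assoc, map_one] at this
        rwa [Category.assoc]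
      rw [hg _ h1, hg _ h2, hg _ h3, hg _ h4, _root_.mul_one, _root_.mul_one, _root_.mul_one]
  have hiff : ∀ (T : Over (Spec (CommRingCat.of k))) (x : T ⟶ A),
      ThetaGrp.IsMumfordTriv A L x ↔ x ≫ φ A (AVField.mum (PicF.cl L) d) = 1 :=
    fun T x => mumfordTriv_iff_comp hφ hLa.1 hLD x
  obtain ⟨M, hM⟩ := exists_ample_euler_one_prod hψ hL4 hld4 m hm α
    (fun T x hx => by
      obtain ⟨h1, h2, h3, h4⟩ := (hproj T x).1 hx
      refine four_ext ?_ ?_ ?_ ?_ <;> rw [MonObj.pow_comp, MonObj.one_comp]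
      exacts [hKm T _ h1, hKm T _ h2, hKm T _ h3, hKm T _ h4])
    (fun T x hx => by
      obtain ⟨h1, h2, h3, h4⟩ := (hproj T x).1 hx
      haveI := AVField.isMonHom_phi_mum hφ hl hLD
      rw [hiff] at h1 h2 h3 h4
      have hz : ∀ n₁ n₂ n₃ n₄ : ℤ,
          ThetaGrp.IsMumfordTriv A L (comb n₁ n₂ n₃ n₄ (x ≫ p₁) (x ≫ p₂) (x ≫ p₃) (x ≫ p₄)) := fun n₁ n₂ n₃ n₄ => by
        haveI : IsCommMonObj At := isCommMonObj_of_isProper_of_geometricallyIntegral _
        rw [hiff]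
        have hh : ∀ (y : T ⟶ A) (n : ℤ), y ≫ φ A (AVField.mum (PicF.cl L) d) = 1 →
            (y ^ n) ≫ φ A (AVField.mum (PicF.cl L) d) = 1 := fun y n hy => by
          have := map_zpow (MonoidHom.mk' (fun z : T ⟶ A => z ≫ φ A (AVField.mum (PicF.cl L) d))
            (fun z z' => MonObj.mul_comp _ _ _)) y n
          simpa [hy] using this
        rw [comb, MonObj.mul_comp, MonObj.mul_comp, MonObj.mul_comp, hh _ _ h1, hh _ _ h2, hh _ _ h3, hh _ _ h4,
          _root_.mul_one, _root_.mul_one, _root_.mul_one]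
      obtain ⟨e1, e2, e3, e4⟩ := comp_quat (a : ℤ) b c e x
      refine (hproj T _).2 ⟨?_, ?_, ?_, ?_⟩ <;> rw [Category.assoc]
      · rw [e1]; exact hz _ _ _ _
      · rw [e2]; exact hz _ _ _ _
      · rw [e3]; exact hz _ _ _ _
      · rw [e4]; exact hz _ _ _ _)
    fun T x hx => by
      rw [E_pow4, E_pow4]
      obtain ⟨u1, u2, u3, u4⟩ := comp_quat (a : ℤ) b c e (fst F T)
      obtain ⟨v1, v2, v3, v4⟩ := comp_quat (a : ℤ) b c e (snd F T ≫ x)
      simp only [Category.assoc] at v1 v2 v3 v4 ⊢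
      rw [u1, u2, u3, u4, v1, v2, v3, v4]
      simp only [← val_EA hl hLD, ← Units.val_mul, ← toMul_add]
      rw [← Units.val_one, ← toMul_zero]
      congr 2
      simp only [comb, ofMul_mul, ofMul_zpow]
      rw [quaternion_identity]
      have hk : ∀ (f : (F ⊗ T) ⟶ A) (p : F ⟶ A) [IsMonHom p],
          ((m : ℤ) ^ 2) • EA hl hLD (F ⊗ T) (Additive.ofMul f) (Additive.ofMul (snd F T ≫ x ≫ p)) = 0 :=
        fun f p _ => by
          rw [← map_zsmul, ← ofMul_zpow, ← Nat.cast_pow, zpow_natCast, ← MonObj.comp_pow, ← MonObj.pow_comp, hx,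
            MonObj.one_comp, MonObj.comp_one, ofMul_one, map_zero]
      rw [← hsum] at hk
      have h1 := hk (fst F T ≫ p₁) p₁
      have h2 := hk (fst F T ≫ p₂) p₂
      have h3 := hk (fst F T ≫ p₃) p₃
      have h4 := hk (fst F T ≫ p₄) p₄
      rw [add_smul, one_smul] at h1 h2 h3 h4
      simp only [smul_add]
      calc _ = ((((a : ℤ) ^ 2 + (b : ℤ) ^ 2 + (c : ℤ) ^ 2 + (e : ℤ) ^ 2) •
              EA hl hLD (F ⊗ T) (Additive.ofMul (fst F T ≫ p₁)) (Additive.ofMul (snd F T ≫ x ≫ p₁)) +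
            EA hl hLD (F ⊗ T) (Additive.ofMul (fst F T ≫ p₁)) (Additive.ofMul (snd F T ≫ x ≫ p₁))) +
          (((a : ℤ) ^ 2 + (b : ℤ) ^ 2 + (c : ℤ) ^ 2 + (e : ℤ) ^ 2) •
              EA hl hLD (F ⊗ T) (Additive.ofMul (fst F T ≫ p₂)) (Additive.ofMul (snd F T ≫ x ≫ p₂)) +
            EA hl hLD (F ⊗ T) (Additive.ofMul (fst F T ≫ p₂)) (Additive.ofMul (snd F T ≫ x ≫ p₂))) +
          (((a : ℤ) ^ 2 + (b : ℤ) ^ 2 + (c : ℤ) ^ 2 + (e : ℤ) ^ 2) •
              EA hl hLD (F ⊗ T) (Additive.ofMul (fst F T ≫ p₃)) (Additive.ofMul (snd F T ≫ x ≫ p₃)) +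
            EA hl hLD (F ⊗ T) (Additive.ofMul (fst F T ≫ p₃)) (Additive.ofMul (snd F T ≫ x ≫ p₃))) +
          (((a : ℤ) ^ 2 + (b : ℤ) ^ 2 + (c : ℤ) ^ 2 + (e : ℤ) ^ 2) •
              EA hl hLD (F ⊗ T) (Additive.ofMul (fst F T ≫ p₄)) (Additive.ofMul (snd F T ≫ x ≫ p₄)) +
            EA hl hLD (F ⊗ T) (Additive.ofMul (fst F T ≫ p₄)) (Additive.ofMul (snd F T ≫ x ≫ p₄)))) := by abel
        _ = 0 := by rw [h1, h2, h3, h4, add_zero, add_zero, add_zero]
  exact ⟨M, AVIndex.isProper_tensor, MaxAbelian.geometricallyIntegral_tensor _ _, hM⟩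

end Groth.Agent.AVPrincPol
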