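import Groth.Agent.AVPrincPol.Zarhin
import Groth.Agent.Lib.PicZeroPrim
import Groth.Agent.AVDualExist.Unique

/-!
# Principal polarisations from ample modules of Euler characteristic `± 1`; modules of polarisations
-/

noncomputable section

set_option autoImplicit false
set_option linter.style.haveILetI false
set_option linter.unusedSectionVars false
set_option backward.isDefEq.respectTransparency false
set_option backward.isDefEq.respectTransparency.types false
set_option maxHeartbeats 2000000

universe u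

open CategoryTheory CategoryTheory.Limits MonoidalCategory CartesianMonoidalCategory MonObj AlgebraicGeometry

namespace Groth.Agent.AVPrincPol

open Groth.Agent Groth.Agent.H23 Groth.Agent.AVPair Groth.Agent.AVDualCx
open scoped Groth.Agent.H23.PicMul

variable {k : Type u} [Field k]

/-- **An ample module of Euler characteristic `± 1` gives a principal polarisation for any given dual.** -/
theorem exists_polarization_deg_one [IsAlgClosed k] {B : Over (Spec (CommRingCat.of k))} [GrpObj B] [IsProper B.hom]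
    [GeometricallyIntegral B.hom] {M : B.left.Modules} (hMa : CohB1.IsAmple M)
    (hM1 : @Curv2.euler k _ B.left ⟨B.hom⟩ M ^ 2 = 1) {Bt : Over (Spec (CommRingCat.of k))} [GrpObj Bt]
    {φB : AgPol.DualMap B Bt} (hφB : AbDual.IsDualAV Scheme.fppfPrecoverage B Bt φB) :
    ∃ lamB : B ⟶ Bt, AgPol.IsPolarization B Bt φB lamB ∧ AgPol.HasDegSq lamB 1 := by
  haveI : IsIntegral B.left := GeometricallyIntegral.isIntegral_of_subsingleton B.hom
  obtain ⟨g, hg⟩ : ∃ g : ℕ, topologicalKrullDim ↥B.left = g :=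
    ⟨_, VarDim.topologicalKrullDim_eq_deg_genericPoint B.hom⟩
  obtain ⟨hBtp, hBtg, -⟩ := AVDualExist.isAV_of_isDualAV g hg hφB
  haveI := hBtp; haveI := hBtg
  obtain ⟨D, hD, ⟨e⟩⟩ := PicInv.exists_inverse hMa.1
  have hMD : PicF.cl M * PicF.cl D = 1 := by
    rw [← PicMul.cl_tensor]; exact PicMul.cl_eq_iff.2 ⟨e⟩
  obtain ⟨h1, h2, h3, h4⟩ := AVField.isogeny_phi_mum hφB hMa hMD
  refine ⟨_, isPolarization_phi_mum hφB hMa hMD, h1, h2, ?_, fun y => ?_⟩
  · generalize φB B _ = w
    haveI : LocallyOfFinitePresentation (w.left ≫ Bt.hom) := by rw [Over.w w]; infer_instance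
    exact S12442.locallyOfFinitePresentation_of_comp w.left Bt.hom
  · have h := h4 y
    rw [hM1] at h
    exact (Nat.cast_eq_one.1 h).trans (one_pow 2).symm

variable {A At : Over (Spec (CommRingCat.of k))} [GrpObj A] [IsProper A.hom] [GeometricallyIntegral A.hom]
  [GrpObj At] [IsProper At.hom] [GeometricallyIntegral At.hom] {φ : AgPol.DualMap A At}
  (hφ : AbDual.IsDualAV Scheme.fppfPrecoverage A At φ)

include hφ in
/-- A polarisation over an algebraically closed field comes from an ample module on the variety itself. -/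
theorem exists_module_of_polarization [IsAlgClosed k] {lam : A ⟶ At} (hpol : AgPol.IsPolarization A At φ lam) :
    ∃ (L : A.left.Modules) (d : PicF.Cl A.left), CohB1.IsAmple L ∧ PicF.cl L * d = 1 ∧
      φ A (AVField.mum (PicF.cl L) d) = lam := by
  let t : Spec (CommRingCat.of k) ⟶ Spec (CommRingCat.of k) := 𝟙 _
  obtain ⟨L', hL', N, hN, hN', hφN⟩ := hpol.2 k t
  obtain ⟨D', hD', ⟨e⟩⟩ := PicInv.exists_inverse hL'.1
  have hLD' : PicF.cl L' * PicF.cl D' = 1 := by rw [← PicMul.cl_tensor]; exact PicMul.cl_eq_iff.2 ⟨e⟩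
  haveI : IsIso (prj t A) := inferInstanceAs (IsIso (pullback.fst A.hom (𝟙 _)))
  let s : A.left ⟶ (Red.bc t A).left := inv (prj t A)
  let L : A.left.Modules := (Scheme.Modules.pullback s).obj L'
  have hLa : CohB1.IsAmple L := by
    haveI : CompactSpace A.left := QuasiCompact.compactSpace_of_compactSpace A.hom
    haveI : CompactSpace (Red.bc t A).left := (Scheme.Hom.homeomorph (prj t A)).symm.compactSpace
    exact RGLib.Lim8.isAmple_pullback_affine _ hL'
  have hld : PicF.cl L * PicF.pullCl s (PicF.cl D') = 1 := by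
    show PicF.pullCl s (PicF.cl L') * _ = 1
    rw [← PicMul.pullCl_mul, hLD', PicMul.pullCl_one]
  refine ⟨L, PicF.pullCl s (PicF.cl D'), hLa, hld, ?_⟩
  have h := bcDual_mum hφ ⟨L, rfl, hLa.1⟩ hld t
  have e1 : ∀ c : PicF.Cl (Red.bc t A).left, PicF.pullCl (prj t A) (PicF.pullCl s c) = c := fun c => by
    rw [PicClLib.pullCl_comp, IsIso.hom_inv_id]
    exact PicClLib.pullCl_id c
  have e2 : PicF.pullCl (prj t A) (PicF.cl L) = PicF.cl L' := e1 (PicF.cl L')
  rw [e2, e1, ← AVBase.cl_eq_mum hN' hLD'] at h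
  have h' := congrArg (fun w => CommaMorphism.left w ≫ prj t At) (h.symm.trans hφN)
  simp only [map_prj] at h'
  exact Over.OverMorphism.ext ((cancel_epi (prj t A)).1 h')

/-- Classes with the same point and trivial along the unit section agree. -/
theorem eq_one_of_phi {T : Over (Spec (CommRingCat.of k))} {c : PicF.Cl (A ⊗ T).left}
    (hc : AVDual.PZ A T c) (h : φ T c = 1) (hs : pl (lift (1 : T ⟶ A) (𝟙 T)) c = 1)
    (hφ : AbDual.IsDualAV Scheme.fppfPrecoverage A At φ) : c = 1 := by
  haveI := (AVField.smooth_connected (A := A)).1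
  haveI := (AVField.smooth_connected (A := A)).2
  have he : PicF.secT A.hom η[A].left (Over.w η[A]) T = (lift (1 : T ⟶ A) (𝟙 T)).left := by
    refine pullback.hom_ext ?_ ?_
    · refine (pullback.lift_fst _ _ _).trans ?_
      refine Eq.trans ?_ (congrArg CommaMorphism.left (lift_fst (1 : T ⟶ A) (𝟙 T))).symm
      rfl
    · exact (pullback.lift_snd _ _ _).trans (congrArg CommaMorphism.left (lift_snd (1 : T ⟶ A) (𝟙 T))).symm
  haveI := isCommMonObj_of_isProper_of_geometricallyIntegral A
  refine PicZeroPrim.eq_of_phi hφ hc (AbDualBase.pz_one _) (h.trans (AbDualBase.phi_one hφ _).symm) ?_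
  rw [he]
  exact hs.trans (map_one (pl (lift (1 : T ⟶ A) (𝟙 T)))).symm

include hφ in
/-- A point lies in `K(L)` iff it is killed by the homomorphism of `L`. -/
theorem mumfordTriv_iff_comp {L : A.left.Modules} (hL : PicF.IsInvertible L) {d : PicF.Cl A.left}
    (hLD : PicF.cl L * d = 1) {T : Over (Spec (CommRingCat.of k))} (x : T ⟶ A) :
    ThetaGrp.IsMumfordTriv A L x ↔ x ≫ φ A (AVField.mum (PicF.cl L) d) = 1 := by
  have hz := AVField.pz_mum ⟨L, rfl, hL⟩ hLD
  rw [mumfordTriv_iff hL hLD, ← whisker_eq_E, ← AVDual.phi_pl hφ x hz]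
  refine ⟨fun h => by rw [h, AVDual.phi_one hφ], fun h => eq_one_of_phi (AVDual.pz_pl x hz) h ?_ hφ⟩
  rw [whisker_eq_E, pl_E, lift_fst, ← Category.assoc, lift_snd, Category.id_comp, E_one_left ⟨L, rfl, hL⟩ hLD]

end Groth.Agent.AVPrincPol
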