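import Groth.Agent.AmpleX.BaseChange
import Groth.Agent.AVFieldDual.Polar
import Groth.Agent.AVDualCx.KunnethEuler
import Groth.Agent.H23.KLBasic

/-!
# The Mumford pairing on points, and products of ample modules
-/

noncomputable section

set_option autoImplicit false
set_option linter.style.haveILetI false
set_option linter.unusedSectionVars false
set_option backward.isDefEq.respectTransparency false
set_option backward.isDefEq.respectTransparency.types false
set_option maxHeartbeats 1000000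

universe u

open CategoryTheory CategoryTheory.Limits MonoidalCategory CartesianMonoidalCategory MonObj AlgebraicGeometry

namespace Groth.Agent.AVPrincPol

open Groth.Agent Groth.Agent.H23 Groth.Agent.AVPair
open scoped Groth.Agent.H23.PicMul

/-- An exterior product of ample modules is ample. -/
theorem isAmple_boxProd {S X₁ X₂ : Scheme.{u}} [IsAffine S] (f₁ : X₁ ⟶ S) (f₂ : X₂ ⟶ S) [QuasiCompact f₁]
    [QuasiCompact f₂] {L₁ : X₁.Modules} {L₂ : X₂.Modules} (h₁ : CohB1.IsAmple L₁) (h₂ : CohB1.IsAmple L₂) :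
    CohB1.IsAmple (CohB1.tensorMod ((Scheme.Modules.pullback (pullback.fst f₁ f₂)).obj L₁)
        ((Scheme.Modules.pullback (pullback.snd f₁ f₂)).obj L₂)) := by
  suffices key : ∀ (g₁ : X₁ ⟶ S) (g₂ : X₂ ⟶ S), g₁ = f₁ ≫ 𝟙 S → g₂ = f₂ ≫ 𝟙 S →
      CohB1.IsAmple (CohB1.tensorMod ((Scheme.Modules.pullback (pullback.fst g₁ g₂)).obj L₁)
        ((Scheme.Modules.pullback (pullback.snd g₁ g₂)).obj L₂)) from
    key f₁ f₂ (Category.comp_id _).symm (Category.comp_id _).symm
  rintro _ _ rfl rfl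
  have h := AmpleX.isRelAmple_prod (𝟙 S) (𝟙 S) f₁ f₂ ((AmpleX.isRelAmple_iff_isAmple f₁ L₁).2 h₁)
    ((AmpleX.isRelAmple_iff_isAmple f₂ L₂).2 h₂)
  haveI : IsAffine (pullback (𝟙 S) (𝟙 S)) := isAffine_of_isAffineHom (pullback.fst (𝟙 S) (𝟙 S))
  haveI := h.1
  exact (AmpleX.isRelAmple_iff_isAmple _ _).1 h

variable {k : Type u} [Field k] {A : Over (Spec (CommRingCat.of k))} [GrpObj A] [IsProper A.hom]
  [GeometricallyIntegral A.hom]

/-- The pairing of two points. -/
def E (l d : PicF.Cl A.left) {T : Over (Spec (CommRingCat.of k))} (x y : T ⟶ A) : PicF.Cl T.left :=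
  pl (lift x y) (AVField.mum l d)

theorem pl_E (l d : PicF.Cl A.left) {T T' : Over (Spec (CommRingCat.of k))} (g : T' ⟶ T) (x y : T ⟶ A) :
    pl g (E l d x y) = E l d (g ≫ x) (g ≫ y) := by
  rw [E, E, pl_pl, comp_lift]

variable {l d : PicF.Cl A.left}

theorem mum_axes (hl : PicF.IsInvertibleCl l) (hld : l * d = 1) :
    pl (lift (1 : A ⟶ A) (𝟙 A)) (AVField.mum l d) = 1 ∧ pl (lift (𝟙 A) (1 : A ⟶ A)) (AVField.mum l d) = 1 := by
  have hd := AVField.isInvertibleCl_inv hl hld
  constructor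
  · simp only [AVField.mum, map_mul, pl_pl]
    rw [show lift (1 : A ⟶ A) (𝟙 A) ≫ μ[A] = 𝟙 A from _root_.one_mul (𝟙 A), lift_fst, lift_snd,
      show (1 : A ⟶ A) = toUnit A ≫ η[A] from Hom.one_def, pl_const hd, _root_.mul_one, pl_id, pl_id, hld]
  · simp only [AVField.mum, map_mul, pl_pl]
    rw [show lift (𝟙 A) (1 : A ⟶ A) ≫ μ[A] = 𝟙 A from _root_.mul_one (𝟙 A), lift_fst, lift_snd,
      show (1 : A ⟶ A) = toUnit A ≫ η[A] from Hom.one_def, pl_const hd, _root_.mul_one, pl_id, pl_id, hld]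

theorem E_mul_left (hl : PicF.IsInvertibleCl l) (hld : l * d = 1) {T : Over (Spec (CommRingCat.of k))}
    (x x' y : T ⟶ A) : E l d (x * x') y = E l d x y * E l d x' y :=
  AVPair.add_left (AVField.isInvertibleCl_mum hl hld) (mum_axes hl hld).1 (mum_axes hl hld).2 x x' y

theorem E_mul_right (hl : PicF.IsInvertibleCl l) (hld : l * d = 1) {T : Over (Spec (CommRingCat.of k))}
    (x y y' : T ⟶ A) : E l d x (y * y') = E l d x y * E l d x y' :=
  AVPair.add_right (AVField.isInvertibleCl_mum hl hld) (mum_axes hl hld).1 (mum_axes hl hld).2 x y y'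

theorem E_one_left (hl : PicF.IsInvertibleCl l) (hld : l * d = 1) {T : Over (Spec (CommRingCat.of k))}
    (y : T ⟶ A) : E l d (1 : T ⟶ A) y = 1 := by
  rw [E, show lift (1 : T ⟶ A) y = y ≫ lift (1 : A ⟶ A) (𝟙 A) by
    rw [comp_lift, MonObj.comp_one, Category.comp_id], ← pl_pl, (mum_axes hl hld).1, map_one]

theorem E_one_right (hl : PicF.IsInvertibleCl l) (hld : l * d = 1) {T : Over (Spec (CommRingCat.of k))}
    (x : T ⟶ A) : E l d x (1 : T ⟶ A) = 1 := by
  rw [E, show lift x (1 : T ⟶ A) = x ≫ lift (𝟙 A) (1 : A ⟶ A) by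
    rw [comp_lift, MonObj.comp_one, Category.comp_id], ← pl_pl, (mum_axes hl hld).2, map_one]

theorem whisker_eq_E {T : Over (Spec (CommRingCat.of k))} (x : T ⟶ A) :
    pl (A ◁ x) (AVField.mum l d) = E l d (fst A T) (snd A T ≫ x) := by
  rw [E, show lift (fst A T) (snd A T ≫ x) = A ◁ x by
    apply CartesianMonoidalCategory.hom_ext <;> simp]

/-- Points of `K(L)` are those killed by the pairing. -/
theorem mumfordTriv_iff {L : A.left.Modules} (hL : PicF.IsInvertible L) {d : PicF.Cl A.left}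
    (hd : PicF.cl L * d = 1) {T : Over (Spec (CommRingCat.of k))} (x : T ⟶ A) :
    ThetaGrp.IsMumfordTriv A L x ↔ E (PicF.cl L) d (fst A T) (snd A T ≫ x) = 1 := by
  haveI : Subsingleton ↥(Spec (CommRingCat.of k)) := inferInstanceAs (Subsingleton (PrimeSpectrum k))
  haveI : Nonempty ↥(Spec (CommRingCat.of k)) := inferInstanceAs (Nonempty (PrimeSpectrum k))
  rw [KLBasic.iff_eq_pull hL x, KLBasic.Eq, ThetaGrp.transl_fst, E]
  simp only [AVField.mum, map_mul, pl_pl]
  rw [show lift (fst A T) (snd A T ≫ x) ≫ μ[A] = fst A T * (snd A T ≫ x) from (Hom.mul_def _ _).symm, lift_fst,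
    lift_snd]
  have hu : ∀ g : A ⊗ T ⟶ A, pl g (PicF.cl L) * pl g d = 1 := fun g => by rw [← map_mul, hd, map_one]
  have e : PicF.pullCl (snd A T).left (PicF.pullCl x.left (PicF.cl L)) = pl (snd A T ≫ x) (PicF.cl L) :=
    PicClLib.pullCl_comp _ _ _
  rw [e]
  show pl (fst A T * (snd A T ≫ x)) (PicF.cl L) = pl (fst A T) (PicF.cl L) * pl (snd A T ≫ x) (PicF.cl L) ↔ _
  constructor
  · intro h
    rw [h]
    calc _ = (pl (fst A T) (PicF.cl L) * pl (fst A T) d) *
          (pl (snd A T ≫ x) (PicF.cl L) * pl (snd A T ≫ x) d) := by ac_rfl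
      _ = 1 := by rw [hu, hu, _root_.mul_one]
  · intro h
    calc pl (fst A T * (snd A T ≫ x)) (PicF.cl L)
        = pl (fst A T * (snd A T ≫ x)) (PicF.cl L) * (pl (fst A T) (PicF.cl L) * pl (fst A T) d) *
          (pl (snd A T ≫ x) (PicF.cl L) * pl (snd A T ≫ x) d) := by
            rw [hu, hu, _root_.mul_one, _root_.mul_one]
      _ = pl (fst A T) (PicF.cl L) * pl (snd A T ≫ x) (PicF.cl L) *
          (pl (fst A T * (snd A T ≫ x)) (PicF.cl L) * pl (fst A T) d * pl (snd A T ≫ x) d) := by ac_rfl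
      _ = _ := by rw [h, _root_.mul_one]

variable {B : Over (Spec (CommRingCat.of k))} [GrpObj B] [IsProper B.hom] [GeometricallyIntegral B.hom]

/-- The Mumford class of an inverse image along a homomorphism. -/
theorem E_pullback (f : B ⟶ A) [IsMonHom f] {T : Over (Spec (CommRingCat.of k))} (x y : T ⟶ B) :
    E (pl f l) (pl f d) x y = E l d (x ≫ f) (y ≫ f) := by
  simp only [E, AVField.mum, map_mul, pl_pl]
  rw [show lift x y ≫ μ[B] ≫ f = lift (x ≫ f) (y ≫ f) ≫ μ[A] by
      rw [IsMonHom.mul_hom f, ← Category.assoc, lift_map], lift_fst, lift_snd, ← Category.assoc, lift_fst,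
    ← Category.assoc, lift_snd]

/-- The pairing of a product of classes. -/
theorem E_mul {l' d' : PicF.Cl A.left} {T : Over (Spec (CommRingCat.of k))} (x y : T ⟶ A) :
    E (l * l') (d * d') x y = E l d x y * E l' d' x y := by
  simp only [E, AVField.mum, map_mul, pl_pl]
  ac_rfl

end Groth.Agent.AVPrincPol
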