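import Mathlib.AlgebraicGeometry.Morphisms.FlatRank
import Groth.Agent.AVCentre.FinRank

/-!
# Closed subschemes of a finite scheme over a field are detected by the rank
-/

noncomputable section

set_option autoImplicit false
set_option linter.style.haveILetI false
set_option linter.unusedSectionVars false
set_option backward.isDefEq.respectTransparency false
set_option backward.isDefEq.respectTransparency.types false
set_option maxHeartbeats 1000000

universe u

open CategoryTheory AlgebraicGeometry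

namespace Groth.Agent.AVPrincPol

variable {k : Type u} [Field k] {X Y : Scheme.{u}} (ι : X ⟶ Y) [IsClosedImmersion ι] (h : Y ⟶ Spec (CommRingCat.of k))
  [IsFinite h]

theorem finrank_le_and_iso (s : ↥(Spec (CommRingCat.of k))) :
    (ι ≫ h).finrank s ≤ h.finrank s ∧ ((ι ≫ h).finrank s = h.finrank s → IsIso ι) := by
  haveI : IsAffine Y := isAffine_of_isAffineHom h
  haveI : IsAffine X := isAffine_of_isAffineHom ι
  obtain ⟨ψ, hψ⟩ := Spec.map_surjective (Y.isoSpec.inv ≫ h)
  obtain ⟨φ, hφ⟩ := Spec.map_surjective (X.isoSpec.inv ≫ ι ≫ Y.isoSpec.hom)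
  have hh : h = Y.isoSpec.hom ≫ Spec.map ψ := by rw [hψ, Iso.hom_inv_id_assoc]
  have hι : ι = X.isoSpec.hom ≫ Spec.map φ ≫ Y.isoSpec.inv := by simp [hφ]
  have hp : ι ≫ h = X.isoSpec.hom ≫ Spec.map (ψ ≫ φ) := by
    rw [Spec.map_comp, hψ, hφ, Category.assoc, Category.assoc, Iso.hom_inv_id_assoc, Iso.hom_inv_id_assoc]
  haveI : IsClosedImmersion (Spec.map φ) := by rw [hφ]; infer_instance
  haveI : IsFinite (Spec.map ψ) := by rw [hψ]; infer_instance
  haveI : IsFinite (Spec.map (ψ ≫ φ)) := by rw [Spec.map_comp]; infer_instance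
  have hsurj : Function.Surjective φ.hom := by
    have h1 := (IsClosedImmersion.isAffine_surjective_of_isAffine (f := Spec.map φ)).2
    have e : φ = (Scheme.ΓSpecIso _).inv ≫ (Spec.map φ).appTop ≫ (Scheme.ΓSpecIso _).hom := by
      rw [Scheme.ΓSpecIso_naturality, Iso.inv_hom_id_assoc]
    rw [e]
    simp only [CommRingCat.hom_comp, RingHom.coe_comp]
    exact ((ConcreteCategory.bijective_of_isIso _).2.comp h1).comp (ConcreteCategory.bijective_of_isIso _).2
  rw [hp, hh, Scheme.Hom.finrank_comp_left_of_isIso, Scheme.Hom.finrank_comp_left_of_isIso]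
  simp only [IsFinite.SpecMap_iff] at *
  letI := ψ.hom.toAlgebra
  letI := (ψ ≫ φ).hom.toAlgebra
  rw [Scheme.Hom.finrank_SpecMap_eq_finrank ‹ψ.hom.Finite› (RingHom.Flat.of_isField (Field.toIsField k) _),
    Scheme.Hom.finrank_SpecMap_eq_finrank ‹(ψ ≫ φ).hom.Finite› (RingHom.Flat.of_isField (Field.toIsField k) _),
    ← RingHom.algebraMap_toAlgebra ψ.hom, ← RingHom.algebraMap_toAlgebra (ψ ≫ φ).hom,
    RingHom.finrank_algebraMap, RingHom.finrank_algebraMap, Module.rankAtStalk_eq_finrank_of_free,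
    Module.rankAtStalk_eq_finrank_of_free]
  haveI : Module.Finite k Γ(Y, ⊤) := ‹ψ.hom.Finite›
  haveI : Module.Finite k Γ(X, ⊤) := ‹(ψ ≫ φ).hom.Finite›
  let l : Γ(Y, ⊤) →ₗ[k] Γ(X, ⊤) :=
    { toFun := φ.hom
      map_add' := fun a b => map_add φ.hom a b
      map_smul' := fun r a => map_mul φ.hom (ψ.hom r) a }
  refine ⟨LinearMap.finrank_le_finrank_of_surjective (f := l) hsurj, fun he => ?_⟩
  have hbij : Function.Bijective φ.hom :=
    ⟨(LinearMap.injective_iff_surjective_of_finrank_eq_finrank (f := l) he.symm).2 hsurj, hsurj⟩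
  haveI : IsIso φ := (ConcreteCategory.isIso_iff_bijective φ).2 hbij
  rw [hι]
  infer_instance

end Groth.Agent.AVPrincPol
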