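import Groth.Agent.AVPrincPol.Main

/-!
# Symmetric homomorphisms to the dual come from line bundles
-/

noncomputable section

set_option autoImplicit false
set_option linter.style.haveILetI false
set_option linter.unusedSectionVars false
set_option backward.isDefEq.respectTransparency false
set_option backward.isDefEq.respectTransparency.types false
set_option maxHeartbeats 2000000

universe u

open CategoryTheory CategoryTheory.Limits MonoidalCategory CartesianMonoidalCategory MonObj AlgebraicGeometry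

namespace Groth.Agent.AVPrincPol

open Groth.Agent Groth.Agent.H23 Groth.Agent.AVPair Groth.Agent.AVDualCx
open scoped Groth.Agent.H23.PicMul

variable {k : Type u} [Field k]

section BC

variable {B Bt : Over (Spec (CommRingCat.of k))} [GrpObj B] [IsProper B.hom]
  [GeometricallyIntegral B.hom] [GrpObj Bt] [IsProper Bt.hom] [GeometricallyIntegral Bt.hom]
  {φ : AgPol.DualMap B Bt} (hφ : AbDual.IsDualAV Scheme.fppfPrecoverage B Bt φ)

include hφ in
/-- The base change of the dual data on the base change of a class on the square. -/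
theorem bcDual_prj₂ {c : PicF.Cl (B ⊗ B).left} (hc : AVDual.PZ B B c) {k' : Type u} [Field k']
    (t : Spec (CommRingCat.of k') ⟶ Spec (CommRingCat.of k)) :
    AgPol.bcDual t B Bt φ (Red.bc t B) (PicF.pullCl (prj₂ t B B) c) = (Over.pullback t).map (φ B c) := by
  let U := Red.bc t B
  let T : Over (Spec (CommRingCat.of k)) := Over.mk (U.hom ≫ t)
  let p : T ⟶ B := Over.homMk (pullback.fst B.hom t) pullback.condition
  refine Over.OverMorphism.ext (pullback.hom_ext ?_ ?_)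
  · rw [AVField.bcDual_fst, map_prj]
    have hJ : (AgPol.bcXTIso t B U).inv ≫ prj₂ t B B = (B ◁ p).left := by
      refine tensor_ext _ _ ?_ ?_
      · rw [Category.assoc, prj₂_fst, ← Over.comp_left, whiskerLeft_fst]
        exact AVField.bcXTIso_inv_fst t B U
      · rw [Category.assoc, prj₂_snd, ← Over.comp_left, whiskerLeft_snd, Over.comp_left]
        show (AgPol.bcXTIso t B U).inv ≫ PicF.XTproj (Red.bc t B).hom U ≫ prj t B = _
        rw [← Category.assoc, AVField.bcXTIso_inv_proj]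
        rfl
    have hcl : PicF.pullCl (AgPol.bcXTIso t B U).inv (PicF.pullCl (prj₂ t B B) c) = pl (B ◁ p) c := by
      rw [PicClLib.pullCl_comp]
      exact congrArg (fun w => PicF.pullCl w c) hJ
    rw [show φ (Over.mk ((Red.bc t B).hom ≫ t)) _ = φ T (pl (B ◁ p) c) from congrArg (φ T) hcl,
      AVDual.phi_pl hφ p hc, Over.comp_left]
    rfl
  · exact (Over.w (AgPol.bcDual t B Bt φ (Red.bc t B) _)).trans (Over.w ((Over.pullback t).map (φ B c))).symm

end BC

/-- The pairing of a class on the square. -/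
abbrev P2 {X : Over (Spec (CommRingCat.of k))} (c : PicF.Cl (X ⊗ X).left) {T : Over (Spec (CommRingCat.of k))}
    (x y : T ⟶ X) : PicF.Cl T.left := pl (lift x y) c

theorem pl_P2 {X : Over (Spec (CommRingCat.of k))} (c : PicF.Cl (X ⊗ X).left) {T T' : Over (Spec (CommRingCat.of k))}
    (g : T' ⟶ T) (x y : T ⟶ X) : pl g (P2 c x y) = P2 c (g ≫ x) (g ≫ y) := by
  rw [P2, P2, pl_pl, comp_lift]

variable {X Xt : Over (Spec (CommRingCat.of k))} [GrpObj X] [IsCommMonObj X] [IsProper X.hom]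
  [GeometricallyIntegral X.hom] [GrpObj Xt] [IsProper Xt.hom] [GeometricallyIntegral Xt.hom]
  {φ : AgPol.DualMap X Xt}

/-- **A symmetric biadditive class on the square is the Mumford class of some invertible module.** -/
theorem exists_mum_eq [IsAlgClosed k] (hφ : AbDual.IsDualAV Scheme.fppfPrecoverage X Xt φ)
    {c : PicF.Cl (X ⊗ X).left} (hci : PicF.IsInvertibleCl c) (h1 : pl (lift (1 : X ⟶ X) (𝟙 X)) c = 1)
    (h2 : pl (lift (𝟙 X) (1 : X ⟶ X)) c = 1) (hsym : pl (lift (snd X X) (fst X X)) c = c) :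
    ∃ (M : X.left.Modules) (d : PicF.Cl X.left), PicF.IsInvertible M ∧ PicF.cl M * d = 1 ∧
      AVField.mum (PicF.cl M) d = c := by
  have hadd : ∀ {T : Over (Spec (CommRingCat.of k))} (a b y : T ⟶ X), P2 c (a * b) y = P2 c a y * P2 c b y :=
    fun a b y => AVPair.add_left hci h1 h2 a b y
  have hadd' : ∀ {T : Over (Spec (CommRingCat.of k))} (a y y' : T ⟶ X), P2 c a (y * y') = P2 c a y * P2 c a y' :=
    fun a y y' => AVPair.add_right hci h1 h2 a y y'
  have hone : ∀ {T : Over (Spec (CommRingCat.of k))} (a : T ⟶ X), P2 c a (1 : T ⟶ X) = 1 := fun {T} a => by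
    rw [P2, show lift a (1 : T ⟶ X) = a ≫ lift (𝟙 X) (1 : X ⟶ X) by
      rw [comp_lift, MonObj.comp_one, Category.comp_id], ← pl_pl, h2, map_one]
  have hpow : ∀ {T : Over (Spec (CommRingCat.of k))} (a y : T ⟶ X) (n : ℕ), P2 c a (y ^ n) = P2 c a y ^ n :=
    fun a y n => by
      induction n with
      | zero => rw [pow_zero, pow_zero, hone]
      | succ n ih => rw [pow_succ, hadd', ih, pow_succ]
  have hswap : ∀ {T : Over (Spec (CommRingCat.of k))} (a y : T ⟶ X), P2 c y a = P2 c a y := fun a y => by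
    conv_rhs => rw [← hsym]
    rw [P2, P2, pl_pl, comp_lift, lift_fst, lift_snd]
  have hcid : P2 c (fst X X) (snd X X) = c := by rw [P2, lift_fst_snd, pl_id]
  have hsw : ∀ {T : Over (Spec (CommRingCat.of k))} (a b : T ⟶ X),
      P2 c (a * b) (a * b) = P2 c a a * (P2 c a b * P2 c a b) * P2 c b b := fun a b => by
    rw [hadd, hadd', hadd', hswap a b]
    ac_rfl
  -- the square of the sought module
  obtain ⟨Dl, hDl, hDi⟩ : ∃ D : X.left.Modules, PicF.cl D = P2 c (𝟙 X) (𝟙 X) ∧ PicF.IsInvertible D :=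
    isInv_pl _ hci
  obtain ⟨L₂, hL₂c, hL₂⟩ : ∃ D : X.left.Modules, PicF.cl D = PicF.cl Dl * PicF.cl Dl ∧ PicF.IsInvertible D :=
    PicMul.isInvertibleCl_mul ⟨Dl, rfl, hDi⟩ ⟨Dl, rfl, hDi⟩
  obtain ⟨d₁, hd₁i, hd₁⟩ := AVPair.exists_inv (⟨Dl, rfl, hDi⟩ : PicF.IsInvertibleCl (PicF.cl Dl))
  have hL₂d : PicF.cl L₂ * (d₁ * d₁) = 1 := by
    rw [hL₂c, _root_.mul_mul_mul_comm, hd₁, _root_.one_mul]
  have hE : ∀ {T : Over (Spec (CommRingCat.of k))} (x y : T ⟶ X),
      E (PicF.cl L₂) (d₁ * d₁) x y = P2 c x y ^ 4 := fun x y => by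
    have hp : ∀ {T : Over (Spec (CommRingCat.of k))} (a : T ⟶ X), pl a (PicF.cl Dl) = P2 c a a := fun a => by
      rw [hDl, pl_P2, Category.comp_id]
    have hu : ∀ {T : Over (Spec (CommRingCat.of k))} (a : T ⟶ X), P2 c a a * pl a d₁ = 1 := fun a => by rw [← hp, ← map_mul, hd₁, map_one]
    rw [hL₂c, E_mul, E]
    simp only [AVField.mum, map_mul, pl_pl]
    rw [show lift x y ≫ μ[X] = x * y from (Hom.mul_def _ _).symm, lift_fst, lift_snd, hp, hsw]
    calc _ = (P2 c x y) ^ 4 * (P2 c x x * pl x d₁) ^ 2 * (P2 c y y * pl y d₁) ^ 2 := by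
          simp only [pow_succ, pow_zero, _root_.one_mul]; ac_rfl
      _ = _ := by rw [hu, hu, one_pow, _root_.mul_one, _root_.mul_one]
  -- the kernel of doubling
  let f : X ⟶ X := 𝟙 X ^ 2
  haveI : IsFinite f.left := AVMulN.isFinite_pow 2 (by norm_num)
  haveI hfs : Surjective f.left := AVMulN.surjective_pow 2 (by norm_num)
  have he1 : (η[X] : 𝟙_ _ ⟶ X) = 1 := by rw [Hom.one_def, toUnit_unique (toUnit _) (𝟙 _), Category.id_comp]
  haveI hfm : IsMonHom f := GrpSchLib.RigidHom.isMonHom_of_one f (by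
    show η[X] ≫ (𝟙 X ^ 2) = η[X]
    rw [MonObj.comp_pow, Category.comp_id, he1, one_pow])
  have hfcomp : ∀ {T : Over (Spec (CommRingCat.of k))} (x : T ⟶ X), x ≫ f = x ^ 2 := fun x => by
    show x ≫ (𝟙 X ^ 2) = _
    rw [MonObj.comp_pow, Category.comp_id]
  let N := pullback f η[X]
  let i : N ⟶ X := pullback.fst f η[X]
  haveI : IsClosedImmersion η[X].left := by
    haveI : IsClosedImmersion (η[X].left ≫ X.hom) := by
      rw [Over.w η[X]]
      exact inferInstanceAs (IsClosedImmersion (𝟙 _))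
    exact IsClosedImmersion.of_comp η[X].left X.hom
  have sqN : IsPullback i (pullback.snd f η[X]) f η[X] := IsPullback.of_hasPullback f η[X]
  haveI : IsClosedImmersion i.left :=
    MorphismProperty.of_isPullback (P := @IsClosedImmersion) (sqN.map (Over.forget _)).flip
      (inferInstanceAs (IsClosedImmersion η[X].left))
  haveI : Mono i := Over.mono_of_mono_left i
  have hmem : ∀ (T : Over (Spec (CommRingCat.of k))) (x : T ⟶ X), (∃ z : T ⟶ N, z ≫ i = x) ↔ x ^ 2 = 1 := fun T x => by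
    rw [← hfcomp]
    constructor
    · rintro ⟨z, rfl⟩
      rw [Category.assoc, sqN.w, ← Category.assoc, toUnit_unique (z ≫ pullback.snd f η[X]) (toUnit T), ← Hom.one_def]
    · intro h
      exact ⟨sqN.lift x (toUnit T) (h.trans Hom.one_def), sqN.lift_fst _ _ _⟩
  obtain ⟨gN, hgN⟩ := AVCentre.exists_grpObj_of_mono i
    (fun T => (hmem T 1).2 (one_pow 2))
    (fun T a b => (hmem T _).2 (by rw [mul_pow, (hmem T (a ≫ i)).1 ⟨a, rfl⟩, (hmem T (b ≫ i)).1 ⟨b, rfl⟩, _root_.one_mul]))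
    (fun T a => (hmem T _).2 (by rw [inv_pow, (hmem T (a ≫ i)).1 ⟨a, rfl⟩, inv_one]))
  letI := gN
  haveI := hgN
  have hkk : AlgGrp.IsKernel i f := by
    show IsPullback i (toUnit N) f η[X]
    rw [toUnit_unique (toUnit N) (pullback.snd f η[X])]
    exact sqN
  obtain ⟨K₂, iK₂, hK₂⟩ := ThetaLib.exists_isKL X L₂ hL₂
  have htriv : ∀ (T : Over (Spec (CommRingCat.of k))) (x : T ⟶ X), x ^ (2 ^ 2) = 1 →
      ThetaGrp.IsMumfordTriv X L₂ x := fun T x hx => by
    rw [mumfordTriv_iff hL₂ hL₂d, hE, ← hpow, ← MonObj.comp_pow, show x ^ 4 = 1 from hx, MonObj.comp_one, hone]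
  have hNK : ∃ y : N ⟶ K₂, y ≫ iK₂ = i :=
    (hK₂.univ N i).1 (htriv N i (by rw [pow_two (2 : ℕ), pow_mul, (hmem N i).1 ⟨𝟙 N, Category.id_comp _⟩, one_pow]))
  obtain ⟨M, hM, ⟨ψ⟩⟩ := (S19948.result k X X f hfs N i hkk L₂ hL₂ K₂ iK₂ hK₂).2 ⟨hNK,
    isIsotropic_of_torsion hL₂ 2 (by norm_num) htriv i fun T x => (hmem T _).1 ⟨x, rfl⟩⟩
  obtain ⟨dM, hdMi, hdM⟩ := AVPair.exists_inv (⟨M, rfl, hM⟩ : PicF.IsInvertibleCl (PicF.cl M))
  refine ⟨M, dM, hM, hdM, ?_⟩
  have hfM : pl f (PicF.cl M) = PicF.cl L₂ := PicMul.cl_eq_iff.2 ⟨ψ⟩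
  have hfd : pl f dM = d₁ * d₁ := by
    refine AVPair.eq_of_mul_inv (e := PicF.cl L₂) ?_ ?_
    · rw [_root_.mul_comm, hL₂d]
    · rw [← hfM, ← map_mul, _root_.mul_comm, hdM, map_one]
  -- `mum M` and `c` agree after multiplication by four
  have h4 : pl (X ◁ (𝟙 X ^ 4 : X ⟶ X)) (AVField.mum (PicF.cl M) dM) = pl (X ◁ (𝟙 X ^ 4 : X ⟶ X)) c := by
    rw [whisker_eq_E, MonObj.comp_pow, Category.comp_id]
    conv_rhs => rw [← hcid, pl_P2, whiskerLeft_fst, whiskerLeft_snd, MonObj.comp_pow, Category.comp_id, hpow]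
    rw [← hE, ← hfM, ← hfd, E_pullback, hfcomp, hfcomp,
      show snd X X ^ 4 = (snd X X ^ 2) * (snd X X ^ 2) from pow_add _ 2 2, E_mul_right ⟨M, rfl, hM⟩ hdM,
      show fst X X ^ 2 = fst X X * fst X X from pow_two _, E_mul_left ⟨M, rfl, hM⟩ hdM]
  have hz := AVField.pz_mum (⟨M, rfl, hM⟩ : PicF.IsInvertibleCl (PicF.cl M)) hdM
  have hzc : AVDual.PZ X X c := AVDual.pz_of_slice (1 : 𝟙_ (Over (Spec (CommRingCat.of k))) ⟶ X) hci (by
    rw [MonObj.comp_one]; exact h2)
  have h := congrArg (φ X) h4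
  rw [AVDual.phi_pl hφ _ hz, AVDual.phi_pl hφ _ hzc] at h
  haveI : IsFinite (𝟙 X ^ 4 : X ⟶ X).left := AVMulN.isFinite_pow 4 (by norm_num)
  haveI : Surjective (𝟙 X ^ 4 : X ⟶ X).left := AVMulN.surjective_pow 4 (by norm_num)
  haveI : IsMonHom (𝟙 X ^ 4 : X ⟶ X) := GrpSchLib.RigidHom.isMonHom_of_one _ (by
    rw [MonObj.comp_pow, Category.comp_id, he1, one_pow])
  haveI : IsIntegral X.left := GeometricallyIntegral.isIntegral_of_subsingleton X.hom
  haveI : Flat (𝟙 X ^ 4 : X ⟶ X).left := GrpSchLib.flat_of_surjective_hom _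
  haveI : Epi (𝟙 X ^ 4 : X ⟶ X).left := Flat.epi_of_flat_of_surjective _
  haveI : Epi (𝟙 X ^ 4 : X ⟶ X) := Over.epi_of_epi_left _
  rw [cancel_epi] at h
  haveI := (AVField.smooth_connected (A := X)).1
  haveI := (AVField.smooth_connected (A := X)).2
  have he : PicF.secT X.hom η[X].left (Over.w η[X]) X = (lift (1 : X ⟶ X) (𝟙 X)).left := by
    refine pullback.hom_ext ?_ ?_
    · refine (pullback.lift_fst _ _ _).trans ?_
      refine Eq.trans ?_ (congrArg CommaMorphism.left (lift_fst (1 : X ⟶ X) (𝟙 X))).symm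
      rfl
    · exact (pullback.lift_snd _ _ _).trans (congrArg CommaMorphism.left (lift_snd (1 : X ⟶ X) (𝟙 X))).symm
  refine PicZeroPrim.eq_of_phi hφ hz hzc h ?_
  rw [he]
  exact ((mum_axes ⟨M, rfl, hM⟩ hdM).1).trans h1.symm

end Groth.Agent.AVPrincPol
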