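import Groth.Agent.ThetaLib.Commutator
import Groth.Agent.GrpSchLib.AntiAffineBC
import Groth.Agent.GrpSchLib.HomFlat
import Groth.Agent.GrpSchLib.RigidHom
import Groth.Agent.Lib.AVMulN

/-!
# Torsion is isotropic when the torsion of square order lies in `K(L)`
-/

noncomputable section

set_option autoImplicit false
set_option linter.style.haveILetI false
set_option linter.unusedSectionVars false
set_option backward.isDefEq.respectTransparency false
set_option backward.isDefEq.respectTransparency.types false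
set_option maxHeartbeats 2000000

universe u

open CategoryTheory CategoryTheory.Limits MonoidalCategory CartesianMonoidalCategory MonObj AlgebraicGeometry
open scoped commutatorElement

namespace Groth.Agent.AVPrincPol

open Groth.Agent ThetaGrp ThetaLib

/-- Commutators with powers, when the commutator is central. -/
theorem commutator_pow_left {G : Type*} [Group G] (δ b : G) (hc : ∀ g : G, Commute ⁅δ, b⁆ g) :
    ∀ n : ℕ, ⁅δ ^ n, b⁆ = ⁅δ, b⁆ ^ n
  | 0 => by simp
  | n + 1 => by
    have e : ⁅δ ^ n * δ, b⁆ = δ ^ n * ⁅δ, b⁆ * (δ ^ n)⁻¹ * ⁅δ ^ n, b⁆ := by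
      simp only [commutatorElement_def]
      group
    rw [pow_succ, e, ← (hc (δ ^ n)).eq, mul_inv_cancel_right, commutator_pow_left δ b hc n, ← pow_succ']

theorem commutator_pow_right {G : Type*} [Group G] (δ b : G) (hc : ∀ g : G, Commute ⁅δ, b⁆ g) (n : ℕ) :
    ⁅δ, b ^ n⁆ = ⁅δ, b⁆ ^ n := by
  have h := commutator_pow_left b δ (fun g => by rw [← commutatorElement_inv]; exact (hc g).inv_left) n
  rw [← commutatorElement_inv, h, ← inv_pow, commutatorElement_inv]

variable {k : Type u} [Field k] [IsAlgClosed k] {A : Over (Spec (CommRingCat.of k))} [GrpObj A] [IsCommMonObj A]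
  [IsProper A.hom] [GeometricallyIntegral A.hom] {L : A.left.Modules}

theorem pt_pow {T : Over (Spec (CommRingCat.of k))} (β : thetaPts A L T) : ∀ n : ℕ, pt (β ^ n) = pt β ^ n
  | 0 => by rw [pow_zero, pow_zero, pt_one]
  | n + 1 => by rw [pow_succ, pt_mul, pt_pow β n, pow_succ']

/-- **If `A[n²] ⊆ K(L)` then a subgroup killed by `n` is isotropic for `L`.** -/
theorem isIsotropic_of_torsion (hL : PicF.IsInvertible L) (n : ℕ) (hn : 1 ≤ n)
    (hK : ∀ (Z : Over (Spec (CommRingCat.of k))) (z : Z ⟶ A), z ^ (n ^ 2) = 1 → IsMumfordTriv A L z)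
    {H : Over (Spec (CommRingCat.of k))} (iH : H ⟶ A)
    (hH : ∀ (T : Over (Spec (CommRingCat.of k))) (x : T ⟶ H), (x ≫ iH) ^ n = 1) : IsIsotropic L iH := by
  have hA := gammaSnd_of_abelian A
  intro T x y β₁ β₂ e₁ e₂
  suffices h : ⁅β₂, β₁⁆ = 1 from (commutatorElement_eq_one_iff_mul_comm.1 h).symm
  obtain ⟨c, hc⟩ := exists_isScal hL hA _ (comm_overOne β₂ β₁)
  -- divide by `n` on a cover
  let φ : A ⟶ A := 𝟙 A ^ n
  haveI : IsFinite φ.left := AVMulN.isFinite_pow n hn
  haveI : Surjective φ.left := AVMulN.surjective_pow n hn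
  haveI : IsMonHom φ := GrpSchLib.RigidHom.isMonHom_of_one φ (by
    show η[A] ≫ (𝟙 A ^ n) = η[A]
    rw [MonObj.comp_pow, Category.comp_id, show (η[A] : 𝟙_ _ ⟶ A) = 1 by
      rw [Hom.one_def, toUnit_unique (toUnit _) (𝟙 _), Category.id_comp], one_pow])
  haveI : IsReduced A.left := by
    haveI : IsIntegral A.left := GeometricallyIntegral.isIntegral_of_subsingleton A.hom
    infer_instance
  haveI : Flat φ.left := GrpSchLib.flat_of_surjective_hom φ
  let a : T ⟶ A := x ≫ iH
  let T' : Over (Spec (CommRingCat.of k)) := Over.mk (pullback.fst a.left φ.left ≫ T.hom)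
  let p : T' ⟶ T := Over.homMk (pullback.fst a.left φ.left) rfl
  let a' : T' ⟶ A := Over.homMk (pullback.snd a.left φ.left) (by
    show pullback.snd _ _ ≫ A.hom = pullback.fst _ _ ≫ T.hom
    rw [← Over.w φ, ← pullback.condition_assoc, Over.w a])
  have ha' : a' ^ n = p ≫ a := by
    have h : a' ≫ φ = p ≫ a := Over.OverMorphism.ext pullback.condition.symm
    rw [← h, show φ = 𝟙 A ^ n from rfl, MonObj.comp_pow, Category.comp_id]
  haveI : Surjective p.left := inferInstanceAs (Surjective (pullback.fst a.left φ.left))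
  haveI : Flat p.left := inferInstanceAs (Flat (pullback.fst a.left φ.left))
  haveI : QuasiCompact p.left := inferInstanceAs (QuasiCompact (pullback.fst a.left φ.left))
  haveI : Epi p.left := Flat.epi_of_flat_of_surjective _
  have ha'K : IsMumfordTriv A L a' := hK T' a' (by
    rw [sq, pow_mul, ha', ← MonObj.comp_pow, hH T x, MonObj.comp_one])
  refine (?_ : c = 1) ▸ hc |> eq_one_of_isScal
  refine GrpSchLib.AntiAffine.appTop_injective_of_epi p.left ?_
  rw [map_one]
  refine ext_of_cover fun t => ?_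
  obtain ⟨U, htU, δ, hδ⟩ := exists_local_lift hL a' ha'K t
  refine ⟨U, htU, ?_⟩
  have hb := isScal_bc hL (incl U ≫ p) hc
  rw [bc_comm] at hb
  have hcen : ∀ g : thetaPts A L (sub U), Commute ⁅bc (incl U ≫ p) β₂, δ⁆ g := fun g =>
    commute_of_overOne hL hA (comm_overOne _ _) g
  have h1 : pt (bc (incl U ≫ p) β₁) = pt (δ ^ n) := by
    rw [pt_bc, pt_pow, isOverPt_iff.1 hδ, isOverPt_iff.1 e₁, Category.assoc, ← MonObj.comp_pow, ha']
  have h2 : pt (bc (incl U ≫ p) β₂ ^ n) = 1 := by
    rw [pt_pow, pt_bc, isOverPt_iff.1 e₂, ← MonObj.comp_pow, hH T y, MonObj.comp_one]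
  rw [comm_congr hL hA _ h1, commutator_pow_right _ _ hcen, ← commutator_pow_left _ _ hcen,
    commutatorElement_eq_one_iff_mul_comm.2 (commute_of_overOne hL hA (isOverPt_iff.2 h2) δ)] at hb
  rw [map_one]
  exact isScal_unique hL hA hb isScal_one

end Groth.Agent.AVPrincPol
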