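import Groth.Agent.AVPrincPol.Pair
import Groth.Agent.AVPrincPol.Torsion
import Groth.Agent.AVPrincPol.Exists
import Groth.Agent.AVPrincPol.BcPhi
import Groth.Agent.FpqcDescLib.Group
import Groth.Agent.H23.MaxAbelian
import Groth.Agent.S19775

/-!
# Zarhin's trick
-/

noncomputable section

set_option autoImplicit false
set_option linter.style.haveILetI false
set_option linter.unusedSectionVars false
set_option backward.isDefEq.respectTransparency false
set_option backward.isDefEq.respectTransparency.types false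
set_option maxHeartbeats 2000000

universe u

open CategoryTheory CategoryTheory.Limits MonoidalCategory CartesianMonoidalCategory MonObj AlgebraicGeometry

namespace Groth.Agent.AVPrincPol

open Groth.Agent Groth.Agent.H23 Groth.Agent.AVPair ThetaGrp
open scoped Groth.Agent.H23.PicMul

variable {k : Type u} [Field k] {A At : Over (Spec (CommRingCat.of k))} [GrpObj A] [IsProper A.hom]
  [GeometricallyIntegral A.hom] [GrpObj At] [IsProper At.hom] [GeometricallyIntegral At.hom]
  {φ : AgPol.DualMap A At} (hφ : AbDual.IsDualAV Scheme.fppfPrecoverage A At φ)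

/-- The homomorphism of a module is attached to it. -/
theorem isLambda_phi_mum {L : A.left.Modules} (hL : PicF.IsInvertible L) {d : PicF.Cl A.left}
    (hLD : PicF.cl L * d = 1) : AgPol.IsLambda A At φ L (φ A (AVField.mum (PicF.cl L) d)) := by
  obtain ⟨N, hN, hNi⟩ := AVField.isInvertibleCl_mum ⟨L, rfl, hL⟩ hLD
  refine ⟨N, hNi, (PicGrp.cl_eq_cl_iff _ _).1 ?_, by rw [hN]⟩
  show (PicF.cl N : PicF.Cl (A ⊗ A).left) * pl (fst _ _) (PicF.cl L) * pl (snd _ _) (PicF.cl L) = pl μ[A] (PicF.cl L)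
  rw [hN]
  have hu : ∀ g : A ⊗ A ⟶ A, pl g d * pl g (PicF.cl L) = 1 := fun g => by
    rw [← map_mul, _root_.mul_comm, hLD, map_one]
  calc _ = pl μ[A] (PicF.cl L) * (pl (fst A A) d * pl (fst A A) (PicF.cl L)) *
        (pl (snd A A) d * pl (snd A A) (PicF.cl L)) := by unfold AVField.mum; ac_rfl
    _ = _ := by rw [hu, hu, _root_.mul_one, _root_.mul_one]

variable [IsAlgClosed k] [IsCommMonObj A]

include hφ in
/-- **Zarhin's trick.** -/
theorem exists_ample_euler_one_prod {L : A.left.Modules} (hLa : CohB1.IsAmple L) {d : PicF.Cl A.left}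
    (hLD : PicF.cl L * d = 1) (m : ℕ) (hm : 1 ≤ m) (α : A ⟶ A) [IsMonHom α]
    (hKm : ∀ (T : Over (Spec (CommRingCat.of k))) (x : T ⟶ A), IsMumfordTriv A L x → x ^ m = 1)
    (hαK : ∀ (T : Over (Spec (CommRingCat.of k))) (x : T ⟶ A), IsMumfordTriv A L x → IsMumfordTriv A L (x ≫ α))
    (hanti : ∀ (T : Over (Spec (CommRingCat.of k))) (x : T ⟶ A), x ^ (m ^ 2) = 1 →
      E (PicF.cl L) d (fst A T) (snd A T ≫ x) * E (PicF.cl L) d (fst A T ≫ α) (snd A T ≫ x ≫ α) = 1) :
    ∃ M : (A ⊗ At).left.Modules, CohB1.IsAmple M ∧ @Curv2.euler k _ (A ⊗ At).left ⟨(A ⊗ At).hom⟩ M ^ 2 = 1 := by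
  haveI : Subsingleton ↥(Spec (CommRingCat.of k)) := inferInstanceAs (Subsingleton (PrimeSpectrum k))
  haveI : Nonempty ↥(Spec (CommRingCat.of k)) := inferInstanceAs (Nonempty (PrimeSpectrum k))
  have hL := hLa.1
  have hli : PicF.IsInvertibleCl (PicF.cl L) := ⟨L, rfl, hL⟩
  have hd := AVField.isInvertibleCl_inv hli hLD
  let lam : A ⟶ At := φ A (AVField.mum (PicF.cl L) d)
  haveI : IsMonHom lam := AVField.isMonHom_phi_mum hφ hli hLD
  obtain ⟨hlf, hlfl, hls, hldeg⟩ := AVField.isogeny_phi_mum hφ hLa hLD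
  haveI : IsFinite lam.left := hlf
  haveI : Flat lam.left := hlfl
  haveI : Surjective lam.left := hls
  have hfin : Set.Finite {a : 𝟙_ (Over (Spec (CommRingCat.of k))) ⟶ A |
      CubeAb.F (PicF.cl L) (CubeAb.tr a) = PicF.cl L} :=
    (S12002.result k A L hLa).subset fun a ha => (AVTheta8.F_tr_eq_iff a).1 ha
  obtain ⟨K, sK, iK, hiKm, hiKc, hKf, hK⟩ := AVDualCx.exists_subgroup hL (hfin.subset fun a ha =>
    (AVTheta8.delta_eq_one hL a).1 ha)
  haveI := hiKm; haveI := hiKc; haveI := hKf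
  haveI : Mono iK := Over.mono_of_mono_left iK
  have hker : AlgGrp.IsKernel iK lam := S19775.result k A At φ hφ L hL lam (isLambda_phi_mum hL hLD) K iK hK
  have hiKtriv : IsMumfordTriv A L iK := (hK.univ K iK).2 ⟨𝟙 K, Category.id_comp _⟩
  -- the products
  haveI : IsProper (A ⊗ A).hom := AVIndex.isProper_tensor
  haveI : GeometricallyIntegral (A ⊗ A).hom := MaxAbelian.geometricallyIntegral_tensor A A
  haveI : IsCommMonObj (A ⊗ A) := isCommMonObj_of_isProper_of_geometricallyIntegral _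
  haveI : IsProper (A ⊗ At).hom := AVIndex.isProper_tensor
  haveI : GeometricallyIntegral (A ⊗ At).hom := MaxAbelian.geometricallyIntegral_tensor A At
  haveI : IsCommMonObj (A ⊗ At) := isCommMonObj_of_isProper_of_geometricallyIntegral _
  haveI : IsCommMonObj At := isCommMonObj_of_isProper_of_geometricallyIntegral _
  -- the shear and the isogeny
  let u : A ⊗ A ⟶ A ⊗ A := lift ((fst A A ≫ α) * (snd A A)⁻¹) (fst A A)
  let v : A ⊗ A ⟶ A ⊗ A := lift (snd A A) ((snd A A ≫ α) * (fst A A)⁻¹)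
  have huv : u ≫ v = 𝟙 _ := by
    apply CartesianMonoidalCategory.hom_ext
    · simp only [Category.assoc, v, lift_fst, u, lift_snd, Category.id_comp]
    · simp only [Category.assoc, v, lift_snd, Category.id_comp, MonObj.comp_mul, GrpObj.comp_inv, u, lift_fst,
        lift_snd_assoc]
      rw [mul_inv_rev, inv_inv, mul_comm (snd A A), mul_inv_cancel_left]
  have hvu : v ≫ u = 𝟙 _ := by
    apply CartesianMonoidalCategory.hom_ext
    · simp only [Category.assoc, u, lift_fst, Category.id_comp, MonObj.comp_mul, GrpObj.comp_inv, v, lift_snd,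
        lift_fst_assoc]
      rw [mul_inv_rev, inv_inv, mul_comm (fst A A), mul_inv_cancel_left]
    · simp only [Category.assoc, u, lift_snd, v, lift_fst, Category.id_comp]
  haveI : IsIso u := ⟨v, huv, hvu⟩
  let f : A ⊗ A ⟶ A ⊗ At := u ≫ A ◁ lam
  have sqW : IsPullback (A ◁ lam).left (snd A A).left (snd A At).left lam.left :=
    (FpqcDescLib.isPullback_whiskerLeft lam A).map (Over.forget _)
  haveI : IsFinite (A ◁ lam).left := MorphismProperty.of_isPullback (P := @IsFinite) sqW.flip inferInstance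
  haveI : Flat (A ◁ lam).left := MorphismProperty.of_isPullback (P := @Flat) sqW.flip inferInstance
  haveI : Surjective (A ◁ lam).left := MorphismProperty.of_isPullback (P := @Surjective) sqW.flip inferInstance
  haveI : IsIso u.left := inferInstanceAs (IsIso ((Over.forget _).map u))
  haveI : IsFinite f.left := inferInstanceAs (IsFinite (u.left ≫ (A ◁ lam).left))
  haveI : Flat f.left := inferInstanceAs (Flat (u.left ≫ (A ◁ lam).left))
  haveI hfs : Surjective f.left := inferInstanceAs (Surjective (u.left ≫ (A ◁ lam).left))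
  have he1 : ∀ {B : Over (Spec (CommRingCat.of k))} [GrpObj B], (η[B] : 𝟙_ _ ⟶ B) = 1 := fun {B} _ => by
    rw [Hom.one_def, toUnit_unique (toUnit _) (𝟙 _), Category.id_comp]
  haveI : IsMonHom f := GrpSchLib.RigidHom.isMonHom_of_one f (by
    rw [he1]
    apply CartesianMonoidalCategory.hom_ext
    · simp only [f, u, Category.assoc, whiskerLeft_fst, lift_fst, MonObj.comp_mul, GrpObj.comp_inv]
      rw [show (1 : 𝟙_ _ ⟶ A ⊗ At) ≫ fst A At = 1 from MonObj.one_comp _,
        show (1 : 𝟙_ _ ⟶ A ⊗ A) ≫ fst A A ≫ α = 1 by rw [← Category.assoc, MonObj.one_comp, MonObj.one_comp],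
        show (1 : 𝟙_ _ ⟶ A ⊗ A) ≫ snd A A = 1 from MonObj.one_comp _, inv_one, _root_.mul_one]
    · simp only [f, u, Category.assoc, whiskerLeft_snd, lift_snd_assoc]
      rw [show (1 : 𝟙_ _ ⟶ A ⊗ At) ≫ snd A At = 1 from MonObj.one_comp _, ← Category.assoc, MonObj.one_comp,
        MonObj.one_comp])
  let j : A ⟶ A ⊗ A := lift (𝟙 A) α
  haveI : IsMonHom j := GrpSchLib.RigidHom.isMonHom_of_one j (by
    rw [he1]
    apply CartesianMonoidalCategory.hom_ext
    · rw [Category.assoc, lift_fst, Category.comp_id]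
      exact (MonObj.one_comp _).symm
    · rw [Category.assoc, lift_snd, MonObj.one_comp]
      exact (MonObj.one_comp _).symm)
  -- the kernel
  have hmem : ∀ (T : Over (Spec (CommRingCat.of k))) (z : T ⟶ A ⊗ A), z ≫ f = 1 ↔
      ∃ y : T ⟶ K, y ≫ iK ≫ j = z := fun T z => by
    constructor
    · intro h
      have h1 := congrArg (· ≫ fst A At) h
      have h2 := congrArg (· ≫ snd A At) h
      simp only [f, u, Category.assoc, whiskerLeft_fst, whiskerLeft_snd, lift_fst, lift_snd_assoc, MonObj.one_comp,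
        MonObj.comp_mul, GrpObj.comp_inv] at h1 h2
      obtain ⟨y, hy⟩ : ∃ y : T ⟶ K, y ≫ iK = z ≫ fst A A :=
        ⟨hker.lift (z ≫ fst A A) (toUnit T) (by rw [Category.assoc, h2, Hom.one_def]), hker.lift_fst _ _ _⟩
      refine ⟨y, ?_⟩
      rw [← Category.assoc, hy]
      apply CartesianMonoidalCategory.hom_ext
      · simp [j]
      · rw [Category.assoc, lift_snd, Category.assoc]
        exact mul_inv_eq_one.1 h1
    · rintro ⟨y, rfl⟩
      apply CartesianMonoidalCategory.hom_ext
      · simp only [f, u, j, Category.assoc, whiskerLeft_fst, lift_fst, MonObj.one_comp, MonObj.comp_mul,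
          GrpObj.comp_inv, lift_fst_assoc, lift_snd, Category.id_comp, mul_inv_cancel, MonObj.comp_one]
      · simp only [f, u, j, Category.assoc, whiskerLeft_snd, lift_snd_assoc, lift_fst_assoc, MonObj.one_comp,
          Category.id_comp]
        rw [show iK ≫ lam = 1 from hker.w.trans rfl, MonObj.comp_one]
  haveI : IsClosedImmersion j.left := by
    haveI : IsSeparated (fst A A).left := inferInstanceAs (IsSeparated (pullback.fst A.hom A.hom))
    haveI : IsClosedImmersion (j.left ≫ (fst A A).left) := by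
      rw [← Over.comp_left, lift_fst, Over.id_left]
      infer_instance
    exact IsClosedImmersion.of_comp j.left (fst A A).left
  haveI : Mono j := Over.mono_of_mono_left j
  have hc' : ∀ c : PullbackCone f η[A ⊗ At], ∃ b : c.pt ⟶ K, b ≫ iK ≫ j = c.fst := fun c =>
    (hmem _ c.fst).1 (c.condition.trans (by rw [Hom.one_def, toUnit_unique c.snd (toUnit _)]))
  have hkk : AlgGrp.IsKernel (iK ≫ j) f := by
    refine ⟨⟨((hmem K (iK ≫ j)).2 ⟨𝟙 K, Category.id_comp _⟩).trans Hom.one_def⟩,
      ⟨PullbackCone.IsLimit.mk _ (fun c => (hc' c).choose)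
      (fun c => (hc' c).choose_spec) (fun c => toUnit_unique _ _) fun c b hb _ => ?_⟩⟩
    rw [← cancel_mono (iK ≫ j), (hc' c).choose_spec, hb]
  -- the exterior square
  let L₂ : (A ⊗ A).left.Modules := CohB1.tensorMod ((Scheme.Modules.pullback (pullback.fst A.hom A.hom)).obj L)
    ((Scheme.Modules.pullback (pullback.snd A.hom A.hom)).obj L)
  have hL₂a : CohB1.IsAmple L₂ := isAmple_boxProd A.hom A.hom hLa hLa
  have hcl₂ : PicF.cl L₂ = pl (fst A A) (PicF.cl L) * pl (snd A A) (PicF.cl L) := PicMul.cl_tensor _ _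
  have hld₂ : PicF.cl L₂ * (pl (fst A A) d * pl (snd A A) d) = 1 := by
    rw [hcl₂]
    calc _ = pl (fst A A) (PicF.cl L * d) * pl (snd A A) (PicF.cl L * d) := by rw [map_mul, map_mul]; ac_rfl
      _ = 1 := by rw [hLD, map_one, map_one, _root_.mul_one]
  haveI : IsMonHom (fst A A) := inferInstance
  haveI : IsMonHom (snd A A) := inferInstance
  have hE₂ : ∀ {T : Over (Spec (CommRingCat.of k))} (x y : T ⟶ A ⊗ A),
      E (PicF.cl L₂) (pl (fst A A) d * pl (snd A A) d) x y =
        E (PicF.cl L) d (x ≫ fst A A) (y ≫ fst A A) * E (PicF.cl L) d (x ≫ snd A A) (y ≫ snd A A) := fun x y => by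
    rw [hcl₂, E_mul, E_pullback, E_pullback]
  have htriv : ∀ {T T' : Over (Spec (CommRingCat.of k))} (x : T ⟶ A) (g : T' ⟶ A) (h : T' ⟶ T),
      IsMumfordTriv A L x → E (PicF.cl L) d g (h ≫ x) = 1 := fun x g h hx => by
    have := congrArg (pl (lift g h)) ((mumfordTriv_iff hL hLD x).1 hx)
    rwa [pl_E, lift_fst, ← Category.assoc, lift_snd, map_one] at this
  obtain ⟨K₂, iK₂, hK₂⟩ := ThetaLib.exists_isKL (A ⊗ A) L₂ hL₂a.1
  have hΓ : ∃ y : K ⟶ K₂, y ≫ iK₂ = iK ≫ j := by
    refine (hK₂.univ K (iK ≫ j)).1 ((mumfordTriv_iff hL₂a.1 hld₂ _).2 ?_)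
    rw [hE₂]
    simp only [j, Category.assoc, lift_fst, lift_snd, Category.comp_id]
    rw [htriv iK _ _ hiKtriv, htriv (iK ≫ α) _ _ (hαK K iK hiKtriv), _root_.mul_one]
  have hiso : IsIsotropic L₂ (iK ≫ j) := by
    refine (S19954.result k A (A ⊗ A) j L₂ hL₂a.1 K₂ iK₂ hK₂ K iK hΓ).2 ?_
    refine isIsotropic_of_torsion (PicClLib.isInvertible_pullback _ hL₂a.1) m hm (fun Z z hz => ?_) iK fun T x =>
      hKm T _ ((hK.univ T _).2 ⟨x, rfl⟩)
    refine (mumfordTriv_iff (PicClLib.isInvertible_pullback _ hL₂a.1)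
      (show PicF.cl ((Scheme.Modules.pullback j.left).obj L₂) * pl j (pl (fst A A) d * pl (snd A A) d) = 1 from ?_)
      z).2 ?_
    · show pl j (PicF.cl L₂) * _ = 1
      rw [← map_mul, hld₂, map_one]
    · rw [show PicF.cl ((Scheme.Modules.pullback j.left).obj L₂) = pl j (PicF.cl L₂) from rfl, E_pullback, hE₂]
      simp only [j, Category.assoc, lift_fst, lift_snd, Category.comp_id]
      exact hanti Z z hz
  obtain ⟨M, hM, ⟨ψ⟩⟩ := (S19948.result k (A ⊗ A) (A ⊗ At) f hfs K (iK ≫ j) hkk L₂ hL₂a.1 K₂ iK₂ hK₂).2 ⟨hΓ, hiso⟩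
  have hfMa : CohB1.IsAmple ((Scheme.Modules.pullback f.left).obj M) := AmpleX.isAmple_of_iso ψ.symm hL₂a
  refine ⟨M, NormX.isAmple_of_finite_surjective (A ⊗ At).hom f.left hM hfMa, ?_⟩
  -- degrees
  haveI : IsIntegral A.left := GeometricallyIntegral.isIntegral_of_subsingleton A.hom
  haveI : IsIntegral At.left := GeometricallyIntegral.isIntegral_of_subsingleton At.hom
  obtain ⟨a0⟩ : Nonempty A.left := inferInstance
  let n := lam.left.finrank (lam.left a0)
  have hn : ∀ y, lam.left.finrank y = n := fun y => by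
    haveI : LocallyOfFinitePresentation lam.left := by
      haveI : LocallyOfFinitePresentation (lam.left ≫ At.hom) := by rw [Over.w lam]; infer_instance
      exact S12442.locallyOfFinitePresentation_of_comp lam.left At.hom
    exact lam.left.isLocallyConstant_finrank.apply_eq_of_preconnectedSpace _ _
  have hn0 : 0 < n := lam.left.one_le_finrank_map a0
  have hfn : ∀ y, f.left.finrank y = n := fun y => by
    show (u.left ≫ (A ◁ lam).left).finrank y = n
    rw [Scheme.Hom.finrank_comp_left_of_isIso, Scheme.Hom.finrank_of_isPullback _ _ _ _ sqW.flip y, hn]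
  letI : (A ⊗ A).left.Over (Spec (CommRingCat.of k)) := ⟨(A ⊗ A).hom⟩
  haveI : IsLocallyNoetherian (A ⊗ At).left := LocallyOfFiniteType.isLocallyNoetherian (A ⊗ At).hom
  have h1 := AVEuler.euler_pullback f n hfn M (AmpleVan.isCoh_invertible hM)
  rw [CurveCohLib.euler_congr (k := k) ψ] at h1
  have h2 : Curv2.euler k (A ⊗ A).left L₂ = (n : ℤ) := by
    have h3 := AVDualCx.euler_prod A A hL hL
    rw [← sq, ← hldeg (lam.left a0)] at h3
    refine Eq.trans ?_ h3
    have hhom : (A ⊗ A).hom = pullback.snd A.hom A.hom ≫ A.hom := (Over.w (snd A A)).symm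
    rw [CurveCohLib.euler_congr (k := k) (PicMul.cl_eq_iff.1 (show PicF.cl L₂ = PicF.cl (CohB1.tensorMod
      ((Scheme.Modules.pullback (pullback.snd A.hom A.hom)).obj L)
      ((Scheme.Modules.pullback (pullback.fst A.hom A.hom)).obj L)) by
        rw [PicMul.cl_tensor, PicMul.cl_tensor, _root_.mul_comm])).some]
    exact congrArg (fun σ => @Curv2.euler k _ (A ⊗ A).left ⟨σ⟩ _) hhom
  rw [h2] at h1
  have h3 : @Curv2.euler k _ (A ⊗ At).left ⟨(A ⊗ At).hom⟩ M = 1 :=
    mul_left_cancel₀ (Int.natCast_ne_zero.2 hn0.ne') (h1.symm.trans (_root_.mul_one _).symm)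
  rw [h3, one_pow]

end Groth.Agent.AVPrincPol
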